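import Groth.Agent.L11.CSA.Cyclic
import Mathlib.GroupTheory.Perm.Cycle.Concrete
import Mathlib.LinearAlgebra.Matrix.ToLin
import Mathlib.GroupTheory.Perm.Fin
import Mathlib.Algebra.BigOperators.Fin

/-!
Existence of the cyclic algebra as a subalgebra of matrices over the field.
-/

set_option autoImplicit false
universe u v w

namespace Groth.L11.Cyc

variable {k : Type u} [Field k] {K : Type v} [Field K] [Algebra k K] [FiniteDimensional k K]

local notation "d" => Module.finrank k K

/-- The companion matrix. -/
noncomputable def comp (b : kˣ) : Matrix (Fin (Module.finrank k K)) (Fin (Module.finrank k K)) K :=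
  Matrix.of fun i j => if j.val + 1 = i.val then (1 : K)
    else if i.val = 0 ∧ j.val + 1 = Module.finrank k K then algebraMap k K (b : k) else 0

/-- The fixed subalgebra. -/
noncomputable def fixedAlg (σ : K ≃ₐ[k] K) (b : kˣ) :
    Subalgebra k (Matrix (Fin (Module.finrank k K)) (Fin (Module.finrank k K)) K) where
  carrier := {M | comp b * M.map (fun x => σ x) = M * comp b}
  mul_mem' := fun {M N} hM hN => by
    have h := map_mul ((σ : K →ₐ[k] K).mapMatrix (m := Fin (Module.finrank k K))) M N
    change (M * N).map (fun x => σ x) = M.map (fun x => σ x) * N.map (fun x => σ x) at h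
    change comp b * (M * N).map (fun x => σ x) = M * N * comp b
    rw [h, ← mul_assoc, hM, mul_assoc, hN, mul_assoc]
  add_mem' := fun {M N} hM hN => by
    change comp b * (M + N).map (fun x => σ x) = (M + N) * comp b
    rw [show (M + N).map (fun x => σ x) = M.map (fun x => σ x) + N.map (fun x => σ x) from
      Matrix.ext fun i j => map_add σ _ _, mul_add, add_mul, hM, hN]
  algebraMap_mem' := fun r => by
    have h := AlgHom.commutes ((σ : K →ₐ[k] K).mapMatrix (m := Fin (Module.finrank k K))) r
    change (algebraMap k (Matrix (Fin (Module.finrank k K)) (Fin (Module.finrank k K)) K) r).map (fun x => σ x) = _ at h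
    change comp b * _ = _
    rw [h]
    exact (Algebra.commutes r _).symm

/-- Weights. -/
noncomputable def wt (b : kˣ) (l : Fin (Module.finrank k K)) : K :=
  if l.val + 1 = Module.finrank k K then algebraMap k K (b : k) else 1

theorem comp_apply (b : kˣ) (i l : Fin (Module.finrank k K)) :
    comp b i l = if finRotate _ l = i then wt b l else 0 := by
  have hv : (finRotate _ l : Fin (Module.finrank k K)).val = (l.val + 1) % Module.finrank k K := by
    obtain ⟨p, hp⟩ : ∃ p, Module.finrank k K = p + 1 := ⟨_, (Nat.sub_add_cancel l.pos).symm⟩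
    revert i l
    rw [hp]
    intro i l
    rw [finRotate_succ_apply, Fin.val_add, Fin.val_one', Nat.add_mod_mod]
  simp only [comp, wt, Matrix.of_apply, Fin.ext_iff, hv]
  have hi := i.isLt
  have hl := l.isLt
  rcases eq_or_ne (l.val + 1) (Module.finrank k K) with h | h
  · simp only [h, Nat.mod_self]
    rw [if_neg (by omega)]
    simp [eq_comm]
  · rw [Nat.mod_eq_of_lt (by omega)]
    simp [h]

theorem wt_ne_zero (b : kˣ) (l : Fin (Module.finrank k K)) : (wt b l : K) ≠ 0 := by
  unfold wt; split_ifs
  · exact (b.isUnit.map (algebraMap k K)).ne_zero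
  · exact one_ne_zero

theorem sigma_wt (σ : K ≃ₐ[k] K) (b : kˣ) (l : Fin (Module.finrank k K)) : σ (wt b l) = wt b l := by
  unfold wt; split_ifs <;> simp

theorem mul_comp_apply (b : kˣ) (M : Matrix (Fin (Module.finrank k K)) (Fin (Module.finrank k K)) K) (i j) :
    (M * comp b : Matrix (Fin (Module.finrank k K)) (Fin (Module.finrank k K)) K) i j = M i (finRotate _ j) * wt b j := by
  rw [Matrix.mul_apply, Finset.sum_eq_single (finRotate _ j)]
  · rw [comp_apply, if_pos rfl]
  · intro l _ hl; rw [comp_apply, if_neg (Ne.symm hl), mul_zero]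
  · simp

theorem comp_mul_apply (b : kˣ) (N : Matrix (Fin (Module.finrank k K)) (Fin (Module.finrank k K)) K) (l j) :
    (comp b * N : Matrix (Fin (Module.finrank k K)) (Fin (Module.finrank k K)) K) (finRotate _ l) j = wt b l * N l j := by
  rw [Matrix.mul_apply, Finset.sum_eq_single l]
  · rw [comp_apply, if_pos rfl]
  · intro m _ hm; rw [comp_apply, if_neg fun h => hm ((finRotate _).injective h), zero_mul]
  · simp

theorem mem_fixedAlg_iff (σ : K ≃ₐ[k] K) (b : kˣ) {M : Matrix (Fin (Module.finrank k K)) (Fin (Module.finrank k K)) K} :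
    M ∈ fixedAlg σ b ↔ ∀ l j, wt b l * σ (M l j) = M (finRotate _ l) (finRotate _ j) * wt b j := by
  change comp b * M.map (fun x => σ x) = M * comp b ↔ _
  constructor
  · intro h l j
    have := congrFun (congrFun h (finRotate _ l)) j
    rwa [comp_mul_apply, mul_comp_apply, Matrix.map_apply] at this
  · intro h
    ext i j
    obtain ⟨l, rfl⟩ := (finRotate _).surjective i
    rw [comp_mul_apply, mul_comp_apply, Matrix.map_apply]
    exact h l j

theorem comp_pow_apply (b : kˣ) : ∀ (n : ℕ) (i l : Fin (Module.finrank k K)),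
    (comp b ^ n : Matrix _ _ K) i l = if (finRotate _ ^ n) l = i then ∏ t ∈ Finset.range n, wt b ((finRotate _ ^ t) l) else 0
  | 0, i, l => by simp [Matrix.one_apply, eq_comm]
  | n + 1, i, l => by
    rw [pow_succ, mul_comp_apply, comp_pow_apply b n, pow_succ (finRotate _), Equiv.Perm.mul_apply, Finset.prod_range_succ']
    simp only [pow_zero, Equiv.Perm.one_apply, pow_succ (finRotate _), Equiv.Perm.mul_apply, ite_mul, zero_mul]

theorem rot_pow (n : ℕ) (l : Fin (Module.finrank k K)) :
    (((finRotate _ ^ n) l : Fin (Module.finrank k K)) : ℕ) = (l.val + n) % Module.finrank k K := by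
  induction n with
  | zero => simp [Nat.mod_eq_of_lt l.isLt]
  | succ n ih =>
    rw [pow_succ', Equiv.Perm.mul_apply]
    obtain ⟨p, hp⟩ : ∃ p, Module.finrank k K = p + 1 := ⟨_, (Nat.sub_add_cancel l.pos).symm⟩
    revert l
    rw [hp]
    intro l ih
    rw [finRotate_succ_apply, Fin.val_add, ih, Fin.val_one', Nat.add_mod_mod, Nat.mod_add_mod, add_assoc]

theorem comp_pow_finrank (b : kˣ) :
    (comp b : Matrix (Fin (Module.finrank k K)) (Fin (Module.finrank k K)) K) ^ Module.finrank k K =
      algebraMap k _ (b : k) := by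
  ext i l
  rw [comp_pow_apply, Matrix.algebraMap_matrix_apply]
  have h1 : (finRotate (Module.finrank k K) ^ Module.finrank k K) l = l := Fin.ext (by
    rw [rot_pow, Nat.add_mod_right, Nat.mod_eq_of_lt l.isLt])
  rw [h1]
  by_cases hil : l = i
  · subst hil
    rw [if_pos rfl, if_pos rfl]
    have hlast : Module.finrank k K - 1 < Module.finrank k K := by have := l.pos; omega
    have hbij : ∏ t : Fin (Module.finrank k K), wt b ((finRotate _ ^ (t : ℕ)) l) = ∏ m, (wt b m : K) := by
      refine Fintype.prod_bijective _ (Finite.injective_iff_bijective.mp fun s t h => ?_) _ _ (fun _ => rfl)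
      have h' := congrArg Fin.val h
      rw [rot_pow, rot_pow] at h'
      have := s.isLt; have := t.isLt; have := l.isLt
      exact Fin.ext (Nat.ModEq.eq_of_lt_of_lt (Nat.ModEq.add_left_cancel' l.val h') s.isLt t.isLt)
    rw [← Fin.prod_univ_eq_prod_range (fun t => wt b ((finRotate _ ^ t) l)), hbij,
      Fintype.prod_eq_single ⟨_, hlast⟩ (fun m hm => ?_)]
    · simp [wt, Nat.sub_add_cancel l.pos]
    · have hm' : m.val + 1 ≠ Module.finrank k K := fun h => hm (Fin.ext (show m.val = Module.finrank k K - 1 by omega))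
      simp [wt, hm']
  · rw [if_neg hil, if_neg (Ne.symm hil)]

variable [IsGalois k K] {σ : K ≃ₐ[k] K}

/-- The generators. -/
noncomputable def relFixed (hσ : ∀ τ : K ≃ₐ[k] K, τ ∈ Subgroup.zpowers σ) (b : kˣ) : Rel σ b (fixedAlg σ b) where
  f :=
    ((Matrix.diagonalAlgHom k (α := K) (n := Fin (Module.finrank k K))).comp
      (Pi.algHom k _ fun l : Fin (Module.finrank k K) => ((σ ^ (l : ℕ) : K ≃ₐ[k] K) : K →ₐ[k] K))).codRestrict _ fun x => by
      rw [mem_fixedAlg_iff]
      intro l j
      simp only [AlgHom.comp_apply, Matrix.diagonalAlgHom_apply, Pi.algHom_apply, AlgEquiv.coe_algHom, Matrix.diagonal_apply]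
      have hpow : σ ^ ((finRotate _ l : Fin (Module.finrank k K)) : ℕ) = σ * σ ^ (l : ℕ) := by
        have h1 := rot_pow 1 l
        rw [pow_one] at h1
        rw [h1, show (l.val + 1) % Module.finrank k K = (l.val + 1) % orderOf σ by simp only [orderOf_gen hσ], pow_mod_orderOf, pow_succ']
      by_cases hlj : l = j
      · subst hlj
        rw [if_pos rfl, if_pos rfl, hpow, AlgEquiv.mul_apply, mul_comm]
      · rw [if_neg hlj, if_neg fun h => hlj ((finRotate _).injective h), map_zero, mul_zero, zero_mul]
  Y := ⟨comp b, by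
    change comp b * (comp b).map (fun x => σ x) = comp b * comp b
    congr 1
    ext i j
    rw [Matrix.map_apply, comp_apply]
    split_ifs
    · exact sigma_wt σ b j
    · exact map_zero σ⟩
  rel x := Subtype.ext <| by
    ext i j
    obtain ⟨l, rfl⟩ := (finRotate _).surjective i
    have hd : ∀ (z : K) (r t : Fin (Module.finrank k K)),
        ((Matrix.diagonalAlgHom k (α := K) (n := Fin (Module.finrank k K))).comp
          (Pi.algHom k _ fun l : Fin (Module.finrank k K) => ((σ ^ (l : ℕ) : K ≃ₐ[k] K) : K →ₐ[k] K))) z r t =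
          if r = t then (σ ^ (r : ℕ)) z else 0 := fun z r t => by
      simp [Matrix.diagonal_apply]
    change ((_ : Matrix (Fin (Module.finrank k K)) (Fin (Module.finrank k K)) K) * comp b : Matrix (Fin (Module.finrank k K)) (Fin (Module.finrank k K)) K) (finRotate _ l) j =
      (comp b * (_ : Matrix (Fin (Module.finrank k K)) (Fin (Module.finrank k K)) K) : Matrix (Fin (Module.finrank k K)) (Fin (Module.finrank k K)) K) (finRotate _ l) j
    rw [mul_comp_apply, comp_mul_apply]
    simp only [AlgHom.coe_codRestrict, hd]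
    have hpow : σ ^ ((finRotate _ l : Fin (Module.finrank k K)) : ℕ) = σ ^ (l : ℕ) * σ := by
      have h1 := rot_pow 1 l
      rw [pow_one] at h1
      rw [h1, show (l.val + 1) % Module.finrank k K = (l.val + 1) % orderOf σ by simp only [orderOf_gen hσ], pow_mod_orderOf, pow_succ]
    by_cases hlj : l = j
    · subst hlj
      rw [if_pos rfl, if_pos rfl, hpow, AlgEquiv.mul_apply, mul_comm]
    · rw [if_neg hlj, if_neg fun h => hlj ((finRotate _).injective h), mul_zero, zero_mul]
  pow := Subtype.ext (comp_pow_finrank b)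

theorem finrank_fixedAlg (hσ : ∀ τ : K ≃ₐ[k] K, τ ∈ Subgroup.zpowers σ) (b : kˣ) :
    Module.finrank k (fixedAlg σ b) = Module.finrank k K ^ 2 := by
  haveI : NeZero (Module.finrank k K) := ⟨Module.finrank_pos.ne'⟩
  let row : fixedAlg σ b →ₗ[k] (Fin (Module.finrank k K) → K) :=
    { toFun := fun M => (M : Matrix (Fin (Module.finrank k K)) (Fin (Module.finrank k K)) K) 0
      map_add' := fun _ _ => rfl
      map_smul' := fun _ _ => rfl }
  have hrow : Function.Injective row := by
    rw [injective_iff_map_eq_zero]
    intro M hM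
    have hmem := (mem_fixedAlg_iff σ b).mp M.2
    have : ∀ n : ℕ, ∀ j, (M : Matrix (Fin (Module.finrank k K)) (Fin (Module.finrank k K)) K) ((finRotate _ ^ n) 0) j = 0 := by
      intro n
      induction n with
      | zero => exact fun j => congrFun hM j
      | succ n ih =>
        intro j
        obtain ⟨j', rfl⟩ := (finRotate _).surjective j
        rw [pow_succ', Equiv.Perm.mul_apply]
        have h := hmem ((finRotate _ ^ n) 0) j'
        rw [ih j', map_zero σ, mul_zero] at h
        exact (mul_eq_zero.mp h.symm).resolve_right (wt_ne_zero b j')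
    refine Subtype.ext (Matrix.ext fun i j => ?_)
    have h := this i.val j
    have hi : (finRotate (Module.finrank k K) ^ i.val) 0 = i := Fin.ext (by
      rw [rot_pow, Fin.val_zero, zero_add, Nat.mod_eq_of_lt i.isLt])
    rwa [hi] at h
  have hle := LinearMap.finrank_le_finrank_of_injective hrow
  haveI : Module.Finite k (fixedAlg σ b) := Module.Finite.of_injective row hrow
  haveI : Nontrivial (fixedAlg σ b) := inferInstance
  have hge := LinearMap.finrank_le_finrank_of_injective ((relFixed hσ b).Ψ_injective hσ)
  rw [Module.finrank_pi_fintype, Finset.sum_const, Finset.card_univ, Fintype.card_fin, smul_eq_mul] at hle hge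
  rw [sq]
  omega

theorem exists_cyclicAlg (hσ : ∀ τ : K ≃ₐ[k] K, τ ∈ Subgroup.zpowers σ) (b : kˣ) :
    ∃ (B : Type v) (_ : Ring B) (_ : Algebra k B) (_ : Rel σ b B), Module.finrank k B = Module.finrank k K ^ 2 :=
  ⟨fixedAlg σ b, inferInstance, inferInstance, relFixed hσ b, finrank_fixedAlg hσ b⟩

end Groth.L11.Cyc
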