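import Mathlib.RingTheory.TensorProduct.Maps
import Mathlib.RingTheory.MatrixAlgebra
import Mathlib.LinearAlgebra.Matrix.Reindex

set_option autoImplicit false
universe u v w x

open scoped TensorProduct

namespace Groth.L11.CSA

variable (R : Type u) [CommRing R] (S : Type v) [CommRing S] [Algebra R S]
  (A : Type w) [Ring A] [Algebra R A] (B : Type x) [Ring B] [Algebra R B]

theorem commute_tmul_one_one_tmul {R' : Type*} [CommRing R'] {P Q : Type*} [Ring P] [Ring Q]
    [Algebra R' P] [Algebra R' Q] (p : P) (q : Q) :
    Commute (p ⊗ₜ[R'] (1 : Q)) ((1 : P) ⊗ₜ[R'] q) := by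
  simp [Commute, SemiconjBy, Algebra.TensorProduct.tmul_mul_tmul]

/-- Base change commutes with tensor products of algebras: the forward map. -/
noncomputable def distribHom : S ⊗[R] (A ⊗[R] B) →ₐ[S] (S ⊗[R] A) ⊗[S] (S ⊗[R] B) :=
  Algebra.TensorProduct.lift (Algebra.ofId S _)
    (Algebra.TensorProduct.lift
      (((Algebra.TensorProduct.includeLeft : S ⊗[R] A →ₐ[S] _).restrictScalars R).comp
        Algebra.TensorProduct.includeRight)
      (((Algebra.TensorProduct.includeRight : S ⊗[R] B →ₐ[S] (S ⊗[R] A) ⊗[S] (S ⊗[R] B)).restrictScalars R).comp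
        Algebra.TensorProduct.includeRight)
      fun _ _ => commute_tmul_one_one_tmul _ _)
    fun s _ => Algebra.commutes s _

/-- Base change commutes with tensor products of algebras. -/
noncomputable def distribEquiv : S ⊗[R] (A ⊗[R] B) ≃ₐ[S] (S ⊗[R] A) ⊗[S] (S ⊗[R] B) :=
  AlgEquiv.ofAlgHom (distribHom R S A B)
    (Algebra.TensorProduct.lift
      (Algebra.TensorProduct.map (AlgHom.id S S) Algebra.TensorProduct.includeLeft)
      (Algebra.TensorProduct.map (AlgHom.id S S) Algebra.TensorProduct.includeRight)
      (fun p q => by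
        induction p using TensorProduct.induction_on with
        | zero => rw [map_zero]; exact Commute.zero_left _
        | add p p' h h' => rw [map_add]; exact h.add_left h'
        | tmul s a =>
          induction q using TensorProduct.induction_on with
          | zero => rw [map_zero]; exact Commute.zero_right _
          | add q q' h h' => rw [map_add]; exact h.add_right h'
          | tmul s' b => simp [Commute, SemiconjBy, Algebra.TensorProduct.tmul_mul_tmul, mul_comm]))
    (by ext x <;> simp [distribHom, Algebra.TensorProduct.one_def])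
    (by ext x <;> simp [distribHom, Algebra.TensorProduct.one_def])

theorem distribEquiv_one_tmul (a : A) (b : B) :
    distribEquiv R S A B (1 ⊗ₜ (a ⊗ₜ b)) = ((1 : S) ⊗ₜ a) ⊗ₜ[S] ((1 : S) ⊗ₜ b) := by
  simp [distribEquiv, distribHom]

variable {R S A B}

/-- The tensor product of two split algebras is split. -/
noncomputable def tensorSplit {n m : ℕ} (f : S ⊗[R] A ≃ₐ[S] Matrix (Fin n) (Fin n) S)
    (g : S ⊗[R] B ≃ₐ[S] Matrix (Fin m) (Fin m) S) :
    S ⊗[R] (A ⊗[R] B) ≃ₐ[S] Matrix (Fin (n * m)) (Fin (n * m)) S :=
  (distribEquiv R S A B).trans ((Algebra.TensorProduct.congr f g).trans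
    ((Matrix.kroneckerTMulAlgEquiv (Fin n) (Fin m) S S S S).trans
      ((Algebra.TensorProduct.lid S S).mapMatrix.trans (Matrix.reindexAlgEquiv S S finProdFinEquiv))))

end Groth.L11.CSA
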