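import Groth.Agent.L11.CSA.Skolem
import Mathlib.LinearAlgebra.Matrix.ToLin
import Mathlib.LinearAlgebra.FreeModule.Finite.Matrix
import Mathlib.RingTheory.SimpleRing.Matrix
import Mathlib.RingTheory.SimpleRing.Congr
import Mathlib.Algebra.Algebra.Subalgebra.Basic
import Mathlib.RingTheory.Finiteness.Basic

set_option autoImplicit false
universe u v w x

open scoped TensorProduct

namespace Groth.L11.CSA

variable (k : Type u) [Field k] (A : Type v) [Ring A] [Algebra k A]

section
variable (B : Subalgebra k A)

/-- The representation of `Aᵐᵒᵖ ⊗ B` on `A`. -/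
noncomputable def bimodRep : Aᵐᵒᵖ ⊗[k] B →ₐ[k] Module.End k A :=
  (AlgHom.mulLeftRight k A).comp
    ((Algebra.TensorProduct.map B.val (AlgHom.id k Aᵐᵒᵖ)).comp (Algebra.TensorProduct.comm k Aᵐᵒᵖ B).toAlgHom)

theorem bimodRep_tmul (a : Aᵐᵒᵖ) (b : B) (x : A) :
    bimodRep k A B (a ⊗ₜ b) x = (b : A) * x * a.unop := by
  simp [bimodRep]

end

/-- `A` as a module over `Aᵐᵒᵖ ⊗ B`. -/
abbrev Bimod (B : Subalgebra k A) := Tw (bimodRep k A B)

/-- The centralizer is the endomorphism algebra of `Bimod`. -/
noncomputable def centralizerEquivEnd (B : Subalgebra k A) :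
    Subalgebra.centralizer k (B : Set A) ≃ₗ[k] Module.End (Aᵐᵒᵖ ⊗[k] B) (Bimod k A B) where
  toFun c :=
    { toFun := fun x => ((c : A) * (show A from x) : A)
      map_add' := fun x y => mul_add (c : A) x y
      map_smul' := fun r x => by
        change (c : A) * (bimodRep k A B r (show A from x)) = bimodRep k A B r ((c : A) * (show A from x))
        induction r using TensorProduct.induction_on with
        | zero => simp
        | add r s hr hs => simp only [map_add, LinearMap.add_apply, mul_add, hr, hs]
        | tmul a b =>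
          rw [bimodRep_tmul, bimodRep_tmul]
          simp only [← mul_assoc]
          rw [(Subalgebra.mem_centralizer_iff k).mp c.2 b b.2] }
  map_add' c d := LinearMap.ext fun x => add_mul (c : A) (d : A) x
  map_smul' r c := LinearMap.ext fun x => smul_mul_assoc r (c : A) x
  invFun φ := ⟨(φ (show Bimod k A B from (1 : A)) : A), by
    rw [Subalgebra.mem_centralizer_iff]
    intro b hb
    have h1 := φ.map_smul ((1 : Aᵐᵒᵖ) ⊗ₜ (⟨b, hb⟩ : B)) (show Bimod k A B from (1 : A))
    have h2 := φ.map_smul (MulOpposite.op b ⊗ₜ (1 : B)) (show Bimod k A B from (1 : A))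
    change φ (bimodRep k A B _ (1 : A)) = bimodRep k A B _ (φ _) at h1
    change φ (bimodRep k A B _ (1 : A)) = bimodRep k A B _ (φ _) at h2
    rw [bimodRep_tmul, bimodRep_tmul] at h1 h2
    simp only [MulOpposite.unop_one, mul_one, MulOpposite.unop_op, OneMemClass.coe_one, one_mul] at h1 h2
    exact h1.symm.trans h2⟩
  left_inv c := Subtype.ext (mul_one (c : A))
  right_inv φ := LinearMap.ext fun x => by
    have h2 := φ.map_smul (MulOpposite.op (show A from x) ⊗ₜ (1 : B)) (show Bimod k A B from (1 : A))
    change φ (bimodRep k A B _ (1 : A)) = bimodRep k A B _ (φ _) at h2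
    rw [bimodRep_tmul, bimodRep_tmul] at h2
    simp only [MulOpposite.unop_op, OneMemClass.coe_one, one_mul] at h2
    exact h2.symm

theorem centralizerEquivEnd_mul (B : Subalgebra k A) (c d : Subalgebra.centralizer k (B : Set A)) :
    centralizerEquivEnd k A B (c * d) = centralizerEquivEnd k A B c * centralizerEquivEnd k A B d :=
  LinearMap.ext fun x => mul_assoc (c : A) (d : A) x

/-- **Centralizer theorem**. -/
theorem centralizer_simple [Algebra.IsCentral k A] [IsSimpleRing A] [FiniteDimensional k A]
    (B : Subalgebra k A) [IsSimpleRing B] :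
    IsSimpleRing (Subalgebra.centralizer k (B : Set A)) ∧
      Module.finrank k A = Module.finrank k B * Module.finrank k (Subalgebra.centralizer k (B : Set A)) := by
  classical
  have : IsSimpleRing (Aᵐᵒᵖ ⊗[k] B) := isSimpleRing_tensor
  have := isArtinianRing_of_finite k (Aᵐᵒᵖ ⊗[k] B)
  set R := Aᵐᵒᵖ ⊗[k] B
  set M := Bimod k A B
  have : IsScalarTower k R M := inferInstance
  have : Module.Finite R M := Module.Finite.of_restrictScalars_finite k R M
  have : Nontrivial M := inferInstanceAs (Nontrivial A)
  obtain ⟨q, hq, S, hS, ⟨eM⟩⟩ := (IsSimpleRing.isIsotypic R M).linearEquiv_fun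
  obtain ⟨p, hp, T, hT, ⟨eR⟩⟩ := (IsSimpleRing.isIsotypic R R).linearEquiv_fun
  obtain ⟨eST⟩ := nonempty_linearEquiv_of_simple (R := R) S T
  let eR' : R ≃ₗ[R] Fin p → S := eR.trans (LinearEquiv.piCongrRight fun _ => eST.symm)
  have : Module.Finite k S := Module.Finite.of_injective (S.subtype.restrictScalars k) S.injective_subtype
  let eC : Subalgebra.centralizer k (B : Set A) ≃+* Module.End R M :=
    { (centralizerEquivEnd k A B).toAddEquiv with map_mul' := centralizerEquivEnd_mul k A B }
  have hsimp : IsSimpleRing (Matrix (Fin q) (Fin q) (Module.End R S)) := inferInstance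
  refine ⟨IsSimpleRing.of_ringEquiv
    (eC.trans (eM.conjRingEquiv.trans (endVecRingEquivMatrixEnd (Fin q) R S))).symm hsimp, ?_⟩
  have hC : Module.finrank k (Subalgebra.centralizer k (B : Set A)) =
      q * q * Module.finrank k (Module.End R S) := by
    rw [(centralizerEquivEnd k A B).finrank_eq,
      (eM.conjAlgEquiv k).toLinearEquiv.finrank_eq,
      (endVecAlgEquivMatrixEnd (Fin q) k R S).toLinearEquiv.finrank_eq, Module.finrank_matrix,
      Fintype.card_fin]
  have hR : Module.finrank k R = p * p * Module.finrank k (Module.End R S) := by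
    rw [show Module.finrank k R = Module.finrank k Rᵐᵒᵖ from
        (MulOpposite.opLinearEquiv k).finrank_eq,
      (AlgEquiv.moduleEndSelf k (A := R)).toLinearEquiv.finrank_eq,
      (eR'.conjAlgEquiv k).toLinearEquiv.finrank_eq,
      (endVecAlgEquivMatrixEnd (Fin p) k R S).toLinearEquiv.finrank_eq, Module.finrank_matrix,
      Fintype.card_fin]
  have hR2 : Module.finrank k R = p * Module.finrank k S := by
    rw [(eR'.restrictScalars k).finrank_eq, Module.finrank_pi_fintype]; simp
  have hA : Module.finrank k A = q * Module.finrank k S := by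
    rw [show Module.finrank k A = Module.finrank k M from rfl,
      (eM.restrictScalars k).finrank_eq, Module.finrank_pi_fintype]; simp
  have hR3 : Module.finrank k R = Module.finrank k A * Module.finrank k B := by
    rw [Module.finrank_tensorProduct, ← (MulOpposite.opLinearEquiv k : A ≃ₗ[k] Aᵐᵒᵖ).finrank_eq]
  have hp0 : 0 < p := Nat.pos_of_ne_zero hp.ne
  have hS' : Module.finrank k S = p * Module.finrank k (Module.End R S) :=
    Nat.eq_of_mul_eq_mul_left hp0 (by rw [← hR2, hR, mul_assoc])
  have key : q * Module.finrank k B = p := by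
    have := hR3.symm.trans hR2
    rw [hA] at this
    have := IsSimpleModule.nontrivial R S
    have h0 : 0 < Module.finrank k S := Module.finrank_pos (M := S) (R := k)
    exact Nat.eq_of_mul_eq_mul_right h0 (by linarith [this, mul_comm (q * Module.finrank k S) (Module.finrank k B)])
  rw [hC, hA, hS', ← key]
  ring

end Groth.L11.CSA
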