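import Groth.Agent.L11.CSA.Split
import Mathlib.Algebra.Central.Matrix
import Mathlib.RingTheory.Finiteness.Descent
import Mathlib.RingTheory.Flat.FaithfullyFlat.Basic
import Mathlib.LinearAlgebra.Dual.Lemmas
import Mathlib.RingTheory.Ideal.Quotient.Operations

set_option autoImplicit false
universe u v w

open scoped TensorProduct

namespace Groth.L11.CSA

variable (k : Type u) [Field k] (A : Type v) [Ring A] [Algebra k A] (K : Type w) [Field K] [Algebra k K]

theorem isCentral_of_baseChange [Algebra.IsCentral K (K ⊗[k] A)] : Algebra.IsCentral k A where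
  out x hx := by
    by_contra hne
    have hp : x ∉ Submodule.span k {(1 : A)} := fun h => by
      obtain ⟨r, rfl⟩ := Submodule.mem_span_singleton.mp h
      exact hne (Algebra.mem_bot.mpr ⟨r, Algebra.algebraMap_eq_smul_one r⟩)
    obtain ⟨f, hfx, hf⟩ := Submodule.exists_dual_map_eq_bot_of_notMem hp inferInstance
    have hf1 : f 1 = 0 := (Submodule.eq_bot_iff _).mp hf _ (Submodule.mem_map_of_mem (Submodule.mem_span_singleton_self 1))
    have hc : (1 : K) ⊗ₜ[k] x ∈ Subalgebra.center K (K ⊗[k] A) := by
      rw [Subalgebra.mem_center_iff]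
      intro z
      induction z using TensorProduct.induction_on with
      | zero => simp
      | tmul c a => simp [Algebra.TensorProduct.tmul_mul_tmul, Subalgebra.mem_center_iff.mp hx a]
      | add y z hy hz => simp [add_mul, mul_add, hy, hz]
    rw [Algebra.IsCentral.center_eq_bot, Algebra.mem_bot] at hc
    obtain ⟨c, hc⟩ := hc
    have := congrArg (fun z => TensorProduct.rid k K (LinearMap.lTensor K f z)) hc
    simp [Algebra.TensorProduct.algebraMap_apply, hf1] at this
    exact hfx ((algebraMap k K).injective (by rw [map_zero, Algebra.algebraMap_eq_smul_one]; exact this.symm))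

theorem isSimpleRing_of_baseChange [IsSimpleRing (K ⊗[k] A)] : IsSimpleRing A := by
  have : Nontrivial A := by
    by_contra h
    rw [not_nontrivial_iff_subsingleton] at h
    have : (1 : K ⊗[k] A) = 0 := by
      rw [Algebra.TensorProduct.one_def, show (1 : A) = 0 from Subsingleton.elim _ _, TensorProduct.tmul_zero]
    exact one_ne_zero this
  refine IsSimpleRing.of_eq_bot_or_eq_top fun I => ?_
  by_contra h
  push Not at h
  obtain ⟨hb, ht⟩ := h
  let Q := A ⧸ I.asIdeal
  have hQ : Nontrivial Q := Ideal.Quotient.nontrivial_iff.mpr fun e => ht ((TwoSidedIdeal.one_mem_iff I).mp (by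
    have : (1 : A) ∈ I.asIdeal := e ▸ trivial
    exact this))
  have : Nontrivial (K ⊗[k] Q) := (Algebra.TensorProduct.includeRight_injective (A := K) (B := Q)
    (algebraMap k K).injective).nontrivial
  have hinj := RingHom.injective
    (Algebra.TensorProduct.map (AlgHom.id K K) (Ideal.Quotient.mkₐ k I.asIdeal)).toRingHom
  refine hb (eq_bot_iff.mpr fun a ha => (TwoSidedIdeal.mem_bot A).mpr ?_)
  refine Algebra.TensorProduct.includeRight_injective (A := K) (B := A) (algebraMap k K).injective ?_
  apply hinj
  have h0 : Ideal.Quotient.mk I.asIdeal a = 0 := Ideal.Quotient.eq_zero_iff_mem.mpr ha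
  simp [h0]

theorem isCentral_of_equiv {R : Type*} [CommRing R] {P Q : Type*} [Ring P] [Ring Q] [Algebra R P] [Algebra R Q]
    [Algebra.IsCentral R Q] (e : P ≃ₐ[R] Q) : Algebra.IsCentral R P where
  out x hx := by
    have hx' : e x ∈ Subalgebra.center R Q := Subalgebra.mem_center_iff.mpr fun q => by
      obtain ⟨p, rfl⟩ := e.surjective q
      rw [← map_mul, ← map_mul, Subalgebra.mem_center_iff.mp hx p]
    rw [Algebra.IsCentral.center_eq_bot, Algebra.mem_bot] at hx'
    obtain ⟨r, hr⟩ := hx'
    exact Algebra.mem_bot.mpr ⟨r, e.injective (by rw [e.commutes, hr])⟩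

theorem finite_of_baseChange [Module.Finite K (K ⊗[k] A)] : Module.Finite k A :=
  Module.Finite.of_finite_tensorProduct_of_faithfullyFlat K

theorem csa_iff_split [IsSepClosed K] :
    (Algebra.IsCentral k A ∧ IsSimpleRing A ∧ FiniteDimensional k A) ↔
      ∃ n : ℕ, n ≠ 0 ∧ Nonempty (K ⊗[k] A ≃ₐ[K] Matrix (Fin n) (Fin n) K) := by
  constructor
  · rintro ⟨_, _, _⟩
    exact exists_algEquiv_matrix_baseChange k A K
  · rintro ⟨n, hn, ⟨e⟩⟩
    haveI : NeZero n := ⟨hn⟩
    haveI : Algebra.IsCentral K (K ⊗[k] A) := isCentral_of_equiv e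
    haveI : IsSimpleRing (K ⊗[k] A) := IsSimpleRing.of_ringEquiv e.symm.toRingEquiv inferInstance
    haveI : Module.Finite K (K ⊗[k] A) := Module.Finite.equiv e.symm.toLinearEquiv
    exact ⟨isCentral_of_baseChange k A K, isSimpleRing_of_baseChange k A K, finite_of_baseChange k A K⟩

end Groth.L11.CSA
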