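import Groth.Agent.L11.CSA.Uniq
import Groth.Agent.L11.CSA.Centralizer
import Groth.Agent.L11.CSA.Descent
import Groth.Agent.L11.CSA.BaseChange
import Groth.Prelude.Def_Curves
import Mathlib.RingTheory.SimpleModule.WedderburnArtin
import Mathlib.RingTheory.MatrixAlgebra
import Mathlib.Algebra.Central.Matrix
import Mathlib.Algebra.Algebra.Shrink

/-!
Brauer equivalence for algebras given as types, and the centraliser construction of a representative
containing a given splitting field.
-/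

set_option autoImplicit false
universe u v w x y z

open scoped TensorProduct

namespace Groth.L11.Br

variable (k : Type u) [Field k]

/-- Brauer equivalence. -/
def BEq (A : Type v) [Ring A] [Algebra k A] (B : Type w) [Ring B] [Algebra k B] : Prop :=
  ∃ n m : ℕ, n ≠ 0 ∧ m ≠ 0 ∧ Nonempty (Matrix (Fin n) (Fin n) A ≃ₐ[k] Matrix (Fin m) (Fin m) B)

variable {k} {A : Type v} [Ring A] [Algebra k A] {B : Type w} [Ring B] [Algebra k B]
  {C : Type x} [Ring C] [Algebra k C]

theorem BEq.of_algEquiv (e : A ≃ₐ[k] B) : BEq k A B := ⟨1, 1, one_ne_zero, one_ne_zero, ⟨e.mapMatrix⟩⟩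

theorem BEq.refl (A : Type v) [Ring A] [Algebra k A] : BEq k A A := .of_algEquiv AlgEquiv.refl

theorem BEq.symm (h : BEq k A B) : BEq k B A :=
  let ⟨n, m, hn, hm, ⟨e⟩⟩ := h
  ⟨m, n, hm, hn, ⟨e.symm⟩⟩

/-- `M_p(M_n(A)) ≅ M_(p n)(A)`. -/
noncomputable def matMat (A : Type v) [Ring A] [Algebra k A] (p n : ℕ) :
    Matrix (Fin p) (Fin p) (Matrix (Fin n) (Fin n) A) ≃ₐ[k] Matrix (Fin (p * n)) (Fin (p * n)) A :=
  (Matrix.compAlgEquiv (Fin p) (Fin n) A k).trans (Matrix.reindexAlgEquiv k A finProdFinEquiv)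

theorem BEq.matrix_left (A : Type v) [Ring A] [Algebra k A] {n : ℕ} (hn : n ≠ 0) :
    BEq k (Matrix (Fin n) (Fin n) A) A :=
  ⟨1, 1 * n, one_ne_zero, by omega, ⟨matMat A 1 n⟩⟩

theorem BEq.trans (h : BEq k A B) (h' : BEq k B C) : BEq k A C := by
  obtain ⟨n, m, hn, hm, ⟨e⟩⟩ := h
  obtain ⟨p, q, hp, hq, ⟨e'⟩⟩ := h'
  refine ⟨p * n, m * q, Nat.mul_ne_zero hp hn, Nat.mul_ne_zero hm hq, ⟨?_⟩⟩
  exact (matMat A p n).symm.trans (e.mapMatrix.trans ((matMat B p m).trans
    ((Matrix.reindexAlgEquiv k B (finCongr (Nat.mul_comm p m))).trans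
      ((matMat B m p).symm.trans (e'.mapMatrix.trans (matMat C m q))))))

/-- `M_n(A) ⊗ C ≅ M_n(A ⊗ C)`. -/
noncomputable def matTensor (A : Type v) [Ring A] [Algebra k A] (C : Type x) [Ring C] [Algebra k C] (n : ℕ) :
    Matrix (Fin n) (Fin n) A ⊗[k] C ≃ₐ[k] Matrix (Fin n) (Fin n) (A ⊗[k] C) :=
  (Algebra.TensorProduct.congr (matrixEquivTensor (Fin n) k A) AlgEquiv.refl).trans
    ((Algebra.TensorProduct.assoc k k k A (Matrix (Fin n) (Fin n) k) C).trans
      ((Algebra.TensorProduct.congr AlgEquiv.refl (Algebra.TensorProduct.comm k (Matrix (Fin n) (Fin n) k) C)).trans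
        ((Algebra.TensorProduct.assoc k k k A C (Matrix (Fin n) (Fin n) k)).symm.trans
          (matrixEquivTensor (Fin n) k (A ⊗[k] C)).symm)))

theorem BEq.tensor_right (h : BEq k A B) (C : Type x) [Ring C] [Algebra k C] :
    BEq k (A ⊗[k] C) (B ⊗[k] C) := by
  obtain ⟨n, m, hn, hm, ⟨e⟩⟩ := h
  exact ⟨n, m, hn, hm, ⟨(matTensor A C n).symm.trans
    ((Algebra.TensorProduct.congr e AlgEquiv.refl).trans (matTensor B C m))⟩⟩

theorem BEq.tensor_left (h : BEq k A B) (C : Type x) [Ring C] [Algebra k C] :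
    BEq k (C ⊗[k] A) (C ⊗[k] B) :=
  ((BEq.of_algEquiv (Algebra.TensorProduct.comm k C A)).trans (h.tensor_right C)).trans
    (.of_algEquiv (Algebra.TensorProduct.comm k B C))

theorem algEquiv_of_beq [Algebra.IsCentral k A] [IsSimpleRing A] [FiniteDimensional k A]
    [Algebra.IsCentral k B] [IsSimpleRing B] [FiniteDimensional k B]
    (h : BEq k A B) (hd : Module.finrank k A = Module.finrank k B) : Nonempty (A ≃ₐ[k] B) := by
  haveI := CSA.isArtinianRing_of_finite k A
  haveI := CSA.isArtinianRing_of_finite k B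
  obtain ⟨r, hr, D, _, _, _, ⟨eA⟩⟩ := IsSimpleRing.exists_algEquiv_matrix_divisionRing_finite k A
  obtain ⟨s, hs, D', _, _, _, ⟨eB⟩⟩ := IsSimpleRing.exists_algEquiv_matrix_divisionRing_finite k B
  obtain ⟨n, m, hn, hm, ⟨e⟩⟩ := h
  let E := (matMat D n r).symm.trans ((eA.symm.mapMatrix).trans (e.trans (eB.mapMatrix.trans (matMat D' m s))))
  haveI : Nonempty (ULift.{0} (Fin (n * r))) := ⟨⟨⟨0, Nat.pos_of_ne_zero (Nat.mul_ne_zero hn hr.out)⟩⟩⟩
  haveI : Nonempty (Fin (n * r)) := ⟨⟨0, Nat.pos_of_ne_zero (Nat.mul_ne_zero hn hr.out)⟩⟩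
  haveI : Nonempty (Fin (m * s)) := ⟨⟨0, Nat.pos_of_ne_zero (Nat.mul_ne_zero hm hs.out)⟩⟩
  obtain ⟨⟨g⟩, -⟩ := CSA.nonempty_algEquiv_of_matrix E
  have hdd : Module.finrank k D = Module.finrank k D' := g.toLinearEquiv.finrank_eq
  have hrs : r = s := by
    have h1 := eA.toLinearEquiv.finrank_eq
    have h2 := eB.toLinearEquiv.finrank_eq
    rw [Module.finrank_matrix, Fintype.card_fin] at h1 h2
    rw [hd, h2, hdd] at h1
    exact (Nat.mul_self_inj.mp (Nat.eq_of_mul_eq_mul_right Module.finrank_pos h1)).symm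
  subst hrs
  exact ⟨eA.trans (g.mapMatrix.trans eB.symm)⟩

/-- A central simple algebra split by `K` is equivalent to one of dimension `[K : k]²` containing `K`. -/
theorem exists_rep (A : Type v) [Ring A] [Algebra k A] [Algebra.IsCentral k A] [IsSimpleRing A]
    [FiniteDimensional k A] (K : Type w) [Field K] [Algebra k K] [FiniteDimensional k K]
    (hA : Curves.Splits k A K) :
    ∃ (B : Type v) (_ : Ring B) (_ : Algebra k B) (_ : K →ₐ[k] B),
      Algebra.IsCentral k B ∧ IsSimpleRing B ∧ FiniteDimensional k B ∧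
      Module.finrank k B = Module.finrank k K ^ 2 ∧ BEq k A B := by
  classical
  obtain ⟨n, hn, ⟨φ⟩⟩ := hA
  let bV : Module.Basis (Fin (n * Module.finrank k K)) k (Fin n → K) :=
    Module.finBasisOfFinrankEq k (Fin n → K) (by simp [Module.finrank_pi_fintype])
  let E := Matrix (Fin (n * Module.finrank k K)) (Fin (n * Module.finrank k K)) k
  let toE : Module.End k (Fin n → K) ≃ₐ[k] E := algEquivMatrix bV
  let ρ : Aᵐᵒᵖ →ₐ[k] Module.End k (Fin n → K) :=
    { toFun := fun a =>
        { toFun := fun x => Matrix.vecMul x (φ (1 ⊗ₜ a.unop))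
          map_add' := fun x y => Matrix.add_vecMul _ x y
          map_smul' := fun r x => Matrix.smul_vecMul r x _ }
      map_one' := LinearMap.ext fun x => by
        simp [← Algebra.TensorProduct.one_def, Matrix.vecMul_one]
      map_mul' := fun a b => LinearMap.ext fun x => by
        simp only [LinearMap.coe_mk, AddHom.coe_mk, Module.End.mul_apply, Matrix.vecMul_vecMul]
        rw [← map_mul, Algebra.TensorProduct.tmul_mul_tmul, one_mul, MulOpposite.unop_mul]
      map_zero' := LinearMap.ext fun x => by simp [TensorProduct.tmul_zero]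
      map_add' := fun a b => LinearMap.ext fun x => by
        simp [TensorProduct.tmul_add, Matrix.vecMul_add]
      commutes' := fun r => LinearMap.ext fun x => by
        simp only [LinearMap.coe_mk, AddHom.coe_mk, MulOpposite.algebraMap_apply, MulOpposite.unop_op,
          Module.algebraMap_end_apply]
        rw [Algebra.algebraMap_eq_smul_one r, TensorProduct.tmul_smul, ← Algebra.TensorProduct.one_def,
          ← algebraMap_smul K r (1 : K ⊗[k] A), map_smul, map_one, Matrix.vecMul_smul, Matrix.vecMul_one,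
          algebraMap_smul] }
  haveI : Algebra.IsCentral k Aᵐᵒᵖ := inferInstance
  haveI : IsSimpleRing Aᵐᵒᵖ := inferInstance
  let f : Aᵐᵒᵖ →ₐ[k] E := toE.toAlgHom.comp ρ
  haveI : Nonempty (Fin (n * Module.finrank k K)) :=
    ⟨⟨0, Nat.mul_pos (Nat.pos_of_ne_zero hn) Module.finrank_pos⟩⟩
  have hf : Function.Injective f := RingHom.injective f.toRingHom
  let P := f.range
  let eP : Aᵐᵒᵖ ≃ₐ[k] P := AlgEquiv.ofInjective f hf
  haveI : IsSimpleRing P := IsSimpleRing.of_ringEquiv eP.toRingEquiv inferInstance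
  haveI : Algebra.IsCentral k E := inferInstance
  obtain ⟨hCs, hCd⟩ := CSA.centralizer_simple k E P
  set B₀ := Subalgebra.centralizer k (P : Set E) with hB₀
  haveI := hCs
  have hcardE : Module.finrank k E = (n * Module.finrank k K) * (n * Module.finrank k K) := by
    rw [Module.finrank_matrix]; simp
  have hAd : Module.finrank k A = n * n := by
    have h := φ.toLinearEquiv.finrank_eq
    rwa [Module.finrank_baseChange, Module.finrank_matrix, Fintype.card_fin, Module.finrank_self, mul_one] at h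
  have hPd : Module.finrank k P = n * n := by
    rw [← eP.toLinearEquiv.finrank_eq, ← (MulOpposite.opLinearEquiv k : A ≃ₗ[k] Aᵐᵒᵖ).finrank_eq, hAd]
  have hBd : Module.finrank k B₀ = Module.finrank k K ^ 2 := by
    rw [hcardE, hPd] at hCd
    have hpos : 0 < n * n := Nat.mul_pos (Nat.pos_of_ne_zero hn) (Nat.pos_of_ne_zero hn)
    refine Nat.eq_of_mul_eq_mul_left hpos (hCd.symm.trans ?_)
    ring
  let μ : Aᵐᵒᵖ ⊗[k] B₀ →ₐ[k] E := Algebra.TensorProduct.lift f B₀.val fun a c =>
    (Subalgebra.mem_centralizer_iff k).mp c.2 (f a) ⟨a, rfl⟩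
  haveI : IsSimpleRing (Aᵐᵒᵖ ⊗[k] B₀) := CSA.isSimpleRing_tensor
  have hμinj : Function.Injective μ := RingHom.injective μ.toRingHom
  haveI : FiniteDimensional k B₀ := inferInstance
  have hμ : Function.Bijective μ.toLinearMap := by
    refine ⟨hμinj, (LinearMap.injective_iff_surjective_of_finrank_eq_finrank ?_).mp hμinj⟩
    rw [Module.finrank_tensorProduct, ← (MulOpposite.opLinearEquiv k : A ≃ₗ[k] Aᵐᵒᵖ).finrank_eq, hAd, hBd, hcardE]
    ring
  let eμ := AlgEquiv.ofBijective μ hμ
  haveI : Algebra.IsCentral k B₀ := ⟨fun c hc => by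
    rw [Subalgebra.mem_center_iff] at hc
    have h1 : (c : E) ∈ Subalgebra.center k E := Subalgebra.mem_center_iff.mpr fun e => by
      obtain ⟨z, rfl⟩ := hμ.2 e
      induction z using TensorProduct.induction_on with
      | zero => simp
      | tmul a d =>
        change μ (a ⊗ₜ d) * (c : E) = (c : E) * μ (a ⊗ₜ d)
        rw [Algebra.TensorProduct.lift_tmul]
        have e1 : (f a) * (c : E) = (c : E) * f a := (Subalgebra.mem_centralizer_iff k).mp c.2 (f a) ⟨a, rfl⟩
        have e2 : (d : E) * c = (c : E) * d := congrArg Subtype.val (hc d)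
        change f a * (d : E) * c = c * (f a * (d : E))
        rw [mul_assoc, e2, ← mul_assoc, e1, mul_assoc]
      | add p q hp hq => simp only [map_add, add_mul, mul_add, hp, hq]
    rw [Algebra.IsCentral.center_eq_bot, Algebra.mem_bot] at h1
    obtain ⟨r, hr⟩ := h1
    exact Algebra.mem_bot.mpr ⟨r, Subtype.ext hr⟩⟩
  let g : K →ₐ[k] B₀ := (toE.toAlgHom.comp (Algebra.lsmul k k (Fin n → K))).codRestrict B₀ fun c => by
    rw [Subalgebra.mem_centralizer_iff]
    rintro _ ⟨a, rfl⟩
    change toE (ρ a) * toE (Algebra.lsmul k k (Fin n → K) c) = toE (Algebra.lsmul k k (Fin n → K) c) * toE (ρ a)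
    rw [← map_mul, ← map_mul]
    exact congrArg toE (LinearMap.ext fun x => Matrix.smul_vecMul c x (φ (1 ⊗ₜ a.unop)))
  haveI : Small.{v} B₀ := by
    obtain ⟨bB⟩ : Nonempty (Module.Basis (Fin (Module.finrank k B₀)) k B₀) := ⟨Module.finBasis k B₀⟩
    haveI : Small.{v} k := small_of_injective (FaithfulSMul.algebraMap_injective k A)
    exact small_of_injective bB.equivFun.injective
  let eS : Shrink.{v} B₀ ≃ₐ[k] B₀ := Shrink.algEquiv k B₀
  have hrel : BEq k A B₀ := by
    have h1 : BEq k (A ⊗[k] (Aᵐᵒᵖ ⊗[k] B₀)) A := by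
      refine (BEq.of_algEquiv ((Algebra.TensorProduct.congr AlgEquiv.refl (eμ)).trans
          (matrixEquivTensor (Fin (n * Module.finrank k K)) k A).symm)).trans ?_
      exact BEq.matrix_left A (Nat.mul_ne_zero hn Module.finrank_pos.ne')
    have h2 : BEq k (A ⊗[k] (Aᵐᵒᵖ ⊗[k] B₀)) B₀ := by
      refine (BEq.of_algEquiv ((Algebra.TensorProduct.assoc k k k A Aᵐᵒᵖ B₀).symm.trans
        (Algebra.TensorProduct.congr ((AlgEquiv.ofBijective (AlgHom.mulLeftRight k A)
          (CSA.mulLeftRight_bijective k A)).trans (algEquivMatrix (Module.finBasis k A))) AlgEquiv.refl))).trans ?_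
      refine (BEq.of_algEquiv ((Algebra.TensorProduct.comm k (Matrix (Fin (Module.finrank k A)) (Fin (Module.finrank k A)) k) B₀).trans
        (matrixEquivTensor (Fin (Module.finrank k A)) k B₀).symm)).trans ?_
      exact BEq.matrix_left B₀ Module.finrank_pos.ne'
    exact h1.symm.trans h2
  haveI : Algebra.IsCentral k (Shrink.{v} B₀) := CSA.isCentral_of_equiv eS
  exact ⟨Shrink.{v} B₀, inferInstance, inferInstance, eS.symm.toAlgHom.comp g, inferInstance,
    IsSimpleRing.of_ringEquiv eS.symm.toRingEquiv inferInstance, Module.Finite.equiv eS.symm.toLinearEquiv,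
    by rw [eS.toLinearEquiv.finrank_eq, hBd], hrel.trans (BEq.of_algEquiv eS.symm)⟩

end Groth.L11.Br
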