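import Groth.Agent.L11.CSA.Cyclic
import Groth.Agent.L11.CSA.BrauerEq
import Mathlib.LinearAlgebra.LinearIndependent.Basic
import Mathlib.RingTheory.TensorProduct.Maps

/-!
Multiplicativity of cyclic algebras in the parameter.
-/

set_option autoImplicit false
universe u v w x y

open scoped TensorProduct

namespace Groth.L11.Cyc

variable {k : Type u} [Field k] {K : Type v} [Field K] [Algebra k K]

variable (k K) in
/-- `x ⊗ z ↦ (g ↦ x * g z)`. -/
noncomputable def Φ : K ⊗[k] K →ₐ[k] ((K ≃ₐ[k] K) → K) :=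
  Algebra.TensorProduct.lift (Pi.algHom k _ fun _ => AlgHom.id k K)
    (Pi.algHom k _ fun g => (g : K →ₐ[k] K)) fun _ _ => Commute.all _ _

theorem Φ_tmul (x z : K) (g : K ≃ₐ[k] K) : Φ k K (x ⊗ₜ z) g = x * g z := by simp [Φ]

theorem Φ_map (s t : K ≃ₐ[k] K) (z : K ⊗[k] K) (g : K ≃ₐ[k] K) :
    Φ k K (Algebra.TensorProduct.map (s : K →ₐ[k] K) (t : K →ₐ[k] K) z) g = s (Φ k K z (s⁻¹ * g * t)) := by
  induction z using TensorProduct.induction_on with
  | zero => simp
  | tmul x z =>
    rw [Algebra.TensorProduct.map_tmul, Φ_tmul, Φ_tmul, map_mul]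
    simp
  | add a b ha hb => simp only [map_add, Pi.add_apply, ha, hb]

variable [FiniteDimensional k K] [IsGalois k K]

theorem Φ_bijective : Function.Bijective (Φ k K) := by
  classical
  have hsurj : Function.Surjective (Φ k K).toLinearMap := by
    intro F
    let S : Submodule K ((K ≃ₐ[k] K) → K) := Submodule.span K (Set.range fun (z : K) (g : K ≃ₐ[k] K) => g z)
    have hS : S = ⊤ := by
      rw [eq_top_iff]
      intro v _
      by_contra hv
      obtain ⟨ℓ, hℓv, hℓ⟩ := Submodule.exists_dual_map_eq_bot_of_notMem hv inferInstance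
      let χ : (K ≃ₐ[k] K) → (K →* K) := fun g => (g : K →ₐ[k] K)
      have hinj : Function.Injective χ := fun a b h => AlgEquiv.ext fun x => DFunLike.congr_fun h x
      have hli : LinearIndependent K fun g : K ≃ₐ[k] K => (χ g : K → K) :=
        (linearIndependent_monoidHom K K).comp χ hinj
      have hexp : ∀ w : (K ≃ₐ[k] K) → K, ℓ w = ∑ g, w g * ℓ (Pi.single g 1) := fun w => by
        conv_lhs => rw [pi_eq_sum_univ' w]
        simp [map_sum, map_smul]
      have hsum : ∑ g, ℓ (Pi.single g 1) • (χ g : K → K) = 0 := by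
        funext z
        have h0 : ℓ (fun g : K ≃ₐ[k] K => g z) = 0 :=
          (Submodule.eq_bot_iff _).mp hℓ _ (Submodule.mem_map_of_mem (Submodule.subset_span ⟨z, rfl⟩))
        rw [hexp] at h0
        simp only [Finset.sum_apply, Pi.smul_apply, smul_eq_mul, Pi.zero_apply]
        rw [← h0]
        exact Finset.sum_congr rfl fun g _ => mul_comm _ _
      have hz := Fintype.linearIndependent_iff.mp hli _ hsum
      exact hℓv (by rw [hexp]; simp [hz])
    have hF : F ∈ S := by rw [hS]; trivial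
    induction hF using Submodule.span_induction with
    | mem w hw => obtain ⟨z, rfl⟩ := hw; exact ⟨1 ⊗ₜ z, funext fun g => (Φ_tmul 1 z g).trans (one_mul _)⟩
    | zero => exact ⟨0, map_zero _⟩
    | add a b _ _ ha hb => obtain ⟨a', rfl⟩ := ha; obtain ⟨b', rfl⟩ := hb; exact ⟨a' + b', map_add _ _ _⟩
    | smul c a _ ha =>
      obtain ⟨a', rfl⟩ := ha
      refine ⟨c ⊗ₜ 1 * a', funext fun g => ?_⟩
      change Φ k K (c ⊗ₜ 1 * a') g = c * Φ k K a' g
      rw [map_mul, Pi.mul_apply, Φ_tmul, map_one, mul_one]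
  have hfr : Module.finrank k (K ⊗[k] K) = Module.finrank k ((K ≃ₐ[k] K) → K) := by
    rw [Module.finrank_tensorProduct, Module.finrank_pi_fintype, Finset.sum_const, Finset.card_univ, smul_eq_mul,
      ← Nat.card_eq_fintype_card, IsGalois.card_aut_eq_finrank]
  exact ⟨(LinearMap.injective_iff_surjective_of_finrank_eq_finrank hfr).mpr hsurj, hsurj⟩

open scoped Classical in
/-- The diagonal idempotent. -/
noncomputable def idem : K ⊗[k] K := ((Φ_bijective (k := k) (K := K)).2 (Pi.single 1 1)).choose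

open scoped Classical in
theorem Φ_idem (g : K ≃ₐ[k] K) : Φ k K (idem (k := k)) g = if g = 1 then 1 else 0 := by
  rw [idem, ((Φ_bijective (k := k) (K := K)).2 (Pi.single 1 1)).choose_spec, Pi.single_apply]

open scoped Classical in
theorem Φ_map_idem (s t g : K ≃ₐ[k] K) :
    Φ k K (Algebra.TensorProduct.map (s : K →ₐ[k] K) (t : K →ₐ[k] K) (idem (k := k))) g =
      if s⁻¹ * g * t = 1 then 1 else 0 := by
  rw [Φ_map, Φ_idem]; split_ifs <;> simp

section Mul

variable {σ : K ≃ₐ[k] K} {b b' : kˣ} {A : Type w} [Ring A] [Algebra k A] {A' : Type x} [Ring A'] [Algebra k A']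
  (R : Rel σ b A) (R' : Rel σ b' A')

/-- The image of `K ⊗ K` in `A ⊗ A'`. -/
noncomputable def J : K ⊗[k] K →ₐ[k] A ⊗[k] A' := Algebra.TensorProduct.map R.f R'.f

theorem J_mul_Y (z : K ⊗[k] K) : J R R' z * (R.Y ⊗ₜ[k] (1 : A')) =
    (R.Y ⊗ₜ[k] (1 : A')) * J R R' (Algebra.TensorProduct.map (σ : K →ₐ[k] K) (AlgHom.id k K) z) := by
  induction z using TensorProduct.induction_on with
  | zero => simp
  | tmul x z => simp [J, Algebra.TensorProduct.tmul_mul_tmul, R.rel]
  | add p q hp hq => simp only [map_add, add_mul, mul_add, hp, hq]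

theorem J_mul_pow (n : ℕ) (z : K ⊗[k] K) : J R R' z * (R.Y ⊗ₜ[k] (1 : A')) ^ n =
    (R.Y ⊗ₜ[k] (1 : A')) ^ n *
      J R R' (Algebra.TensorProduct.map ((σ ^ n : K ≃ₐ[k] K) : K →ₐ[k] K) (AlgHom.id k K) z) := by
  induction n generalizing z with
  | zero =>
    simp only [pow_zero, one_mul, mul_one]
    congr 1
    induction z using TensorProduct.induction_on with
    | zero => simp
    | tmul x z => simp
    | add p q hp hq => rw [map_add, ← hp, ← hq]
  | succ n ih =>
    rw [pow_succ, ← mul_assoc, ih, mul_assoc, J_mul_Y, ← mul_assoc]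
    congr 2
    induction z using TensorProduct.induction_on with
    | zero => simp
    | tmul x z => simp [pow_succ' σ]
    | add p q hp hq => simp only [map_add, hp, hq]

theorem J_mul_YY (z : K ⊗[k] K) : J R R' z * (R.Y ⊗ₜ[k] R'.Y) =
    (R.Y ⊗ₜ[k] R'.Y) * J R R' (Algebra.TensorProduct.map (σ : K →ₐ[k] K) (σ : K →ₐ[k] K) z) := by
  induction z using TensorProduct.induction_on with
  | zero => simp
  | tmul x z => simp [J, Algebra.TensorProduct.tmul_mul_tmul, R.rel, R'.rel]
  | add p q hp hq => simp only [map_add, add_mul, mul_add, hp, hq]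

variable (hσ : ∀ τ : K ≃ₐ[k] K, τ ∈ Subgroup.zpowers σ)

include hσ R R' in
theorem beq_mul {A'' : Type y} [Ring A''] [Algebra k A''] (R'' : Rel σ (b * b') A'')
    (hA : Module.finrank k A = Module.finrank k K ^ 2) (hA' : Module.finrank k A' = Module.finrank k K ^ 2)
    (hA'' : Module.finrank k A'' = Module.finrank k K ^ 2) :
    Br.BEq k (A ⊗[k] A') A'' := by
  classical
  haveI := R.isCentral hσ hA
  haveI := R.isSimpleRing hσ hA
  haveI := R'.isSimpleRing hσ hA'
  haveI := R''.isCentral hσ hA''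
  haveI := R''.isSimpleRing hσ hA''
  have hd : 0 < Module.finrank k K := Module.finrank_pos
  haveI : FiniteDimensional k A := Module.finite_of_finrank_pos (by rw [hA]; exact pow_pos hd 2)
  haveI : FiniteDimensional k A' := Module.finite_of_finrank_pos (by rw [hA']; exact pow_pos hd 2)
  haveI : FiniteDimensional k A'' := Module.finite_of_finrank_pos (by rw [hA'']; exact pow_pos hd 2)
  obtain ⟨Yu, hYu⟩ : IsUnit (R.Y ⊗ₜ[k] (1 : A')) :=
    R.isUnit.map (Algebra.TensorProduct.includeLeft : A →ₐ[k] A ⊗[k] A')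
  set P : Fin (Module.finrank k K) → K ⊗[k] K := fun i =>
    Algebra.TensorProduct.map (((σ ^ (i : ℕ))⁻¹ : K ≃ₐ[k] K) : K →ₐ[k] K) (AlgHom.id k K) (idem (k := k)) with hP
  have hΦP : ∀ i g, Φ k K (P i) g = if g = (σ ^ (i : ℕ))⁻¹ then 1 else 0 := fun i g => by
    rw [hP, show (AlgHom.id k K) = ((1 : K ≃ₐ[k] K) : K →ₐ[k] K) from rfl, Φ_map_idem]
    exact if_congr (by rw [mul_one, inv_inv, mul_eq_one_iff_eq_inv', eq_comm, eq_comm]) rfl rfl
  have hinj := (Φ_bijective (k := k) (K := K)).1
  have hPmul : ∀ i j, P i * P j = if i = j then P i else 0 := fun i j => hinj <| funext fun g => by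
    rw [map_mul, Pi.mul_apply, hΦP, hΦP]
    rcases eq_or_ne i j with rfl | hij
    · rw [if_pos rfl, hΦP]; split_ifs <;> simp
    · rw [if_neg hij, map_zero, Pi.zero_apply]
      split_ifs with h1 h2 <;> simp
      exact hij (pow_inj hσ (inv_injective (h1.symm.trans h2)))
  have hPsum : ∑ i, P i = 1 := hinj <| funext fun g => by
    rw [map_sum, Finset.sum_apply, map_one, Pi.one_apply]
    simp only [hΦP]
    obtain ⟨i, hi⟩ := (pow_bijective hσ).2 g⁻¹
    rw [Finset.sum_eq_single i (fun j _ hj => if_neg fun h => hj (pow_inj hσ (by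
        have hi' : σ ^ (i : ℕ) = g⁻¹ := hi
        rw [hi', h, inv_inv]))) (by simp)]
    rw [if_pos]
    have hi' : σ ^ (i : ℕ) = g⁻¹ := hi
    rw [hi', inv_inv]
  have hPconj : ∀ i : Fin (Module.finrank k K),
      ((Yu ^ (i : ℕ) : (A ⊗[k] A')ˣ) : A ⊗[k] A') * J R R' (idem (k := k)) * (((Yu ^ (i : ℕ))⁻¹ : (A ⊗[k] A')ˣ) : A ⊗[k] A')
        = J R R' (P i) := fun i => by
    rw [Units.mul_inv_eq_iff_eq_mul, Units.val_pow_eq_pow_val, hYu, J_mul_pow]
    congr 1
    congr 1
    refine hinj (funext fun g => ?_)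
    rw [show (AlgHom.id k K) = ((1 : K ≃ₐ[k] K) : K →ₐ[k] K) from rfl, Φ_map, hΦP, Φ_idem]
    split_ifs with h1 h2 h3
    · simp
    · exact absurd (by rw [h1]; group) h2
    · exact absurd (by rw [mul_one, inv_mul_eq_iff_eq_mul] at h3; rw [h3]; group) h1
    · simp
  let E : Fin (Module.finrank k K) → Fin (Module.finrank k K) → A ⊗[k] A' := fun i j =>
    ((Yu ^ (i : ℕ) : (A ⊗[k] A')ˣ) : A ⊗[k] A') * J R R' (idem (k := k)) * (((Yu ^ (j : ℕ))⁻¹ : (A ⊗[k] A')ˣ) : A ⊗[k] A')
  have hE : ∀ i j l m, E i j * E l m = if j = l then E i m else 0 := fun i j l m => by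
    have e : E i j * E l m = ((Yu ^ (i : ℕ) * (Yu ^ (j : ℕ))⁻¹ : (A ⊗[k] A')ˣ) : A ⊗[k] A') *
        (J R R' (P j) * J R R' (P l)) * ((Yu ^ (l : ℕ) * (Yu ^ (m : ℕ))⁻¹ : (A ⊗[k] A')ˣ) : A ⊗[k] A') := by
      simp only [E, ← hPconj, Units.val_mul, mul_assoc, Units.inv_mul_cancel_left]
    rw [e, ← map_mul, hPmul]
    rcases eq_or_ne j l with rfl | hjl
    · rw [if_pos rfl, if_pos rfl, ← hPconj]
      simp only [E, Units.val_mul, mul_assoc, Units.inv_mul_cancel_left]
    · simp [hjl]
  have hE1 : ∑ i, E i i = 1 := by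
    simp only [E, hPconj, ← map_sum, hPsum, map_one]
  let M : Matrix (Fin (Module.finrank k K)) (Fin (Module.finrank k K)) k →ₐ[k] A ⊗[k] A' :=
    AlgHom.ofLinearMap
      { toFun := fun N => ∑ i, ∑ j, N i j • E i j
        map_add' := fun N N' => by simp [add_smul, Finset.sum_add_distrib]
        map_smul' := fun r N => by simp [Finset.smul_sum, mul_smul] }
      (by
        change ∑ i, ∑ j, (1 : Matrix (Fin (Module.finrank k K)) (Fin (Module.finrank k K)) k) i j • E i j = 1
        rw [← hE1]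
        refine Finset.sum_congr rfl fun i _ => ?_
        rw [Finset.sum_eq_single i (fun j _ hj => by rw [Matrix.one_apply_ne (Ne.symm hj), zero_smul]) (by simp),
          Matrix.one_apply_eq, one_smul])
      (fun N N' => by
        change ∑ i, ∑ j, (N * N') i j • E i j = (∑ i, ∑ j, N i j • E i j) * ∑ i, ∑ j, N' i j • E i j
        have key : ∀ i j, E i j * (∑ l, ∑ m, N' l m • E l m) = ∑ m, N' j m • E i m := fun i j => by
          rw [Finset.mul_sum, Finset.sum_eq_single j (fun l _ hl => by
            rw [Finset.mul_sum]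
            exact Finset.sum_eq_zero fun m _ => by rw [mul_smul_comm, hE, if_neg (Ne.symm hl), smul_zero]) (by simp),
            Finset.mul_sum]
          exact Finset.sum_congr rfl fun m _ => by rw [mul_smul_comm, hE, if_pos rfl]
        rw [Finset.sum_mul]
        refine Finset.sum_congr rfl fun i _ => ?_
        rw [Finset.sum_mul]
        simp only [smul_mul_assoc, key, Finset.smul_sum, smul_smul, Matrix.mul_apply, Finset.sum_smul]
        exact Finset.sum_comm)
  have hMY : ∀ c : A ⊗[k] A', Commute c (R.Y ⊗ₜ[k] (1 : A')) → Commute c (J R R' (idem (k := k))) → ∀ i j, Commute c (E i j) := by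
    intro c h1 h2 i j
    rw [← hYu] at h1
    have hp : ∀ n : ℕ, Commute c ((Yu ^ n : (A ⊗[k] A')ˣ) : A ⊗[k] A') := fun n => by
      rw [Units.val_pow_eq_pow_val]; exact h1.pow_right n
    exact ((hp i).mul_right h2).mul_right (hp j).units_inv_right
  let T : Rel σ (b * b') (A ⊗[k] A') :=
    { f := (Algebra.TensorProduct.includeRight : A' →ₐ[k] A ⊗[k] A').comp R'.f
      Y := R.Y ⊗ₜ[k] R'.Y
      rel := fun x => by simp [Algebra.TensorProduct.tmul_mul_tmul, R'.rel]
      pow := by
        rw [Algebra.TensorProduct.tmul_pow, R.pow, R'.pow, Units.val_mul, map_mul]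
        simp [Algebra.TensorProduct.algebraMap_apply, Algebra.algebraMap_eq_smul_one, TensorProduct.smul_tmul',
          Algebra.TensorProduct.one_def, mul_smul]
        }
  let F := R''.lift hσ hA'' T
  have hcomm : ∀ (a : A'') N, Commute (F a) (M N) := by
    intro a N
    have ha : a ∈ Algebra.adjoin k (Set.range R''.f ∪ {R''.Y}) := by rw [R''.adjoin_eq_top hσ hA'']; trivial
    have hEa : ∀ i j, Commute (F a) (E i j) := by
      induction ha using Algebra.adjoin_induction with
      | mem c hc =>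
        intro i j
        rcases hc with ⟨x, rfl⟩ | rfl
        · rw [R''.lift_f]
          refine hMY _ ?_ ?_ i j
          · simp [T, Commute, SemiconjBy, Algebra.TensorProduct.tmul_mul_tmul]
          · rw [show T.f x = J R R' ((1 : K) ⊗ₜ x) by simp [T, J]]
            exact (Commute.all _ _).map (J R R')
        · rw [R''.lift_Y]
          refine hMY _ ?_ ?_ i j
          · simp [T, Commute, SemiconjBy, Algebra.TensorProduct.tmul_mul_tmul]
          · change (R.Y ⊗ₜ[k] R'.Y) * _ = _ * (R.Y ⊗ₜ[k] R'.Y)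
            rw [J_mul_YY]
            congr 2
            refine hinj (funext fun g => ?_)
            rw [Φ_map_idem, Φ_idem]
            exact if_congr ⟨fun h => by rw [h]; group, fun h => by
              have := congrArg (fun z => σ * z * σ⁻¹) h; simpa [mul_assoc] using this⟩ rfl rfl
      | algebraMap r => intro i j; rw [AlgHom.commutes]; exact Algebra.commute_algebraMap_left _ _
      | add p q _ _ hp hq => intro i j; rw [map_add]; exact (hp i j).add_left (hq i j)
      | mul p q _ _ hp hq => intro i j; rw [map_mul]; exact (hp i j).mul_left (hq i j)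
    show Commute (F a) (∑ i, ∑ j, N i j • E i j)
    exact Commute.sum_right _ _ _ fun i _ => Commute.sum_right _ _ _ fun j _ => (hEa i j).smul_right _
  let L := Algebra.TensorProduct.lift F M hcomm
  haveI : Nonempty (Fin (Module.finrank k K)) := ⟨⟨0, hd⟩⟩
  haveI : IsSimpleRing (A'' ⊗[k] Matrix (Fin (Module.finrank k K)) (Fin (Module.finrank k K)) k) := CSA.isSimpleRing_tensor
  haveI : IsSimpleRing (A ⊗[k] A') := CSA.isSimpleRing_tensor
  have hLinj : Function.Injective L := RingHom.injective L.toRingHom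
  have hL : Function.Bijective L.toLinearMap := by
    refine ⟨hLinj, (LinearMap.injective_iff_surjective_of_finrank_eq_finrank ?_).mp hLinj⟩
    rw [Module.finrank_tensorProduct, Module.finrank_tensorProduct, Module.finrank_matrix, Fintype.card_fin,
      Module.finrank_self, mul_one, hA, hA', hA'', sq]
  exact (Br.BEq.of_algEquiv ((AlgEquiv.ofBijective L hL).symm.trans
    (matrixEquivTensor (Fin (Module.finrank k K)) k A'').symm)).trans (Br.BEq.matrix_left A'' hd.ne')

end Mul

end Groth.L11.Cyc
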