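import Groth.Agent.L11.CSA.TPow
import Groth.Agent.L11.CSA.CyclicMul
import Groth.Agent.L11.CSA.CyclicExists
import Mathlib.RingTheory.Norm.Transitivity

/-!
A cyclic algebra splits iff the parameter is a norm; the period.
-/

set_option autoImplicit false
universe u v w x

open scoped TensorProduct

namespace Groth.L11.Cyc

variable {k : Type u} [Field k] {K : Type v} [Field K] [Algebra k K] [FiniteDimensional k K] [IsGalois k K]
  {σ : K ≃ₐ[k] K}

/-- The twisted multiplication `z ↦ c * σ⁻¹ z`. -/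
noncomputable def twist (σ : K ≃ₐ[k] K) (c : K) : Module.End k K :=
  Algebra.lmul k K c * (σ⁻¹ : K ≃ₐ[k] K).toLinearMap

theorem twist_pow (c : K) : ∀ (n : ℕ) (z : K),
    (twist σ c ^ n) z = (∏ i ∈ Finset.range n, (σ⁻¹ ^ i) c) * (σ⁻¹ ^ n) z
  | 0, z => by simp
  | n + 1, z => by
    rw [pow_succ', Module.End.mul_apply, twist_pow c n z]
    change c * σ⁻¹ ((∏ i ∈ Finset.range n, (σ⁻¹ ^ i) c) * (σ⁻¹ ^ n) z) = _
    rw [map_mul, map_prod, Finset.prod_range_succ', pow_zero, AlgEquiv.one_apply]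
    simp only [pow_succ' σ⁻¹, AlgEquiv.mul_apply]
    ring

variable (hσ : ∀ τ : K ≃ₐ[k] K, τ ∈ Subgroup.zpowers σ)
include hσ

theorem twist_pow_finrank (c : K) : twist σ c ^ Module.finrank k K = algebraMap k (Module.End k K) (Algebra.norm k c) := by
  classical
  have hσ' : ∀ τ : K ≃ₐ[k] K, τ ∈ Subgroup.zpowers σ⁻¹ := by simpa [Subgroup.zpowers_inv] using hσ
  refine LinearMap.ext fun z => ?_
  rw [twist_pow, Module.algebraMap_end_apply, Algebra.smul_def, Algebra.norm_eq_prod_automorphisms,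
    ← (pow_bijective hσ').prod_comp (fun τ : K ≃ₐ[k] K => τ c), Finset.prod_range,
    ← orderOf_gen hσ', pow_orderOf_eq_one, AlgEquiv.one_apply]

/-- The split model. -/
noncomputable def relTwist {b : kˣ} {c : K} (hc : Algebra.norm k c = (b : k)) : Rel σ b (Module.End k K) where
  f := Algebra.lmul k K
  Y := twist σ c
  rel x := LinearMap.ext fun z => by
    change x * (c * σ⁻¹ z) = c * σ⁻¹ (σ x * z)
    rw [map_mul, ← AlgEquiv.mul_apply, inv_mul_cancel, AlgEquiv.one_apply]
    ring
  pow := by rw [twist_pow_finrank hσ, hc]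

variable {A : Type w} [Ring A] [Algebra k A] {b : kˣ} (R : Rel σ b A)
  (hd : Module.finrank k A = Module.finrank k K ^ 2)
include hd R

theorem splits_of_norm {c : K} (hc : Algebra.norm k c = (b : k)) : Curves.Splits k A k := by
  haveI := R.isSimpleRing hσ hd
  have hdK : 0 < Module.finrank k K := Module.finrank_pos
  haveI : FiniteDimensional k A := Module.finite_of_finrank_pos (by rw [hd]; exact pow_pos hdK 2)
  let F := R.lift hσ hd (relTwist hσ hc)
  have hinj : Function.Injective F.toLinearMap := RingHom.injective F.toRingHom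
  have hbij : Function.Bijective F.toLinearMap := ⟨hinj,
    (LinearMap.injective_iff_surjective_of_finrank_eq_finrank (by
      rw [hd, Module.finrank_linearMap, sq])).mp hinj⟩
  exact ⟨Module.finrank k K, hdK.ne', ⟨((Algebra.TensorProduct.lid k A).trans (AlgEquiv.ofBijective F hbij)).trans
    (algEquivMatrix (Module.finBasis k K))⟩⟩

theorem exists_norm_of_splits (h : Curves.Splits k A k) : ∃ c : K, Algebra.norm k c = (b : k) := by
  obtain ⟨n, hn, ⟨e⟩⟩ := h
  let φ : A →ₐ[k] Module.End k (Fin n → k) :=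
    (((Algebra.TensorProduct.lid k A).symm.trans e).trans (algEquivMatrix (Pi.basisFun k (Fin n))).symm).toAlgHom
  have hdn : n = Module.finrank k K := by
    have h1 := ((Algebra.TensorProduct.lid k A).symm.trans e).toLinearEquiv.finrank_eq
    rw [hd, Module.finrank_matrix, Fintype.card_fin, Module.finrank_self, mul_one, ← sq] at h1
    exact (Nat.pow_left_injective two_ne_zero h1).symm
  haveI : NeZero n := ⟨hn⟩
  let v₀ : Fin n → k := Pi.single 0 1
  have hv₀ : v₀ ≠ 0 := fun h => by simpa [v₀] using congrFun h 0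
  let ψ : K →ₗ[k] (Fin n → k) := (LinearMap.applyₗ v₀) ∘ₗ (φ.comp R.f).toLinearMap
  have hψ : ∀ x, ψ x = φ (R.f x) v₀ := fun x => rfl
  have hψinj : Function.Injective ψ := by
    rw [← LinearMap.ker_eq_bot, Submodule.eq_bot_iff]
    intro x hx
    by_contra hne
    apply hv₀
    have hx' : φ (R.f x) v₀ = 0 := hx
    calc v₀ = φ (R.f (x⁻¹ * x)) v₀ := by rw [inv_mul_cancel₀ hne]; simp
      _ = φ (R.f x⁻¹) (φ (R.f x) v₀) := by rw [map_mul, map_mul, Module.End.mul_apply]
      _ = 0 := by rw [hx', map_zero]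
  have hψsurj : Function.Surjective ψ :=
    (LinearMap.injective_iff_surjective_of_finrank_eq_finrank (by rw [Module.finrank_fin_fun, hdn])).mp hψinj
  obtain ⟨c, hc⟩ := hψsurj (φ R.Y v₀)
  refine ⟨c, ?_⟩
  have key : ∀ z, φ R.Y (ψ z) = ψ (twist σ c z) := fun z => by
    change φ R.Y (φ (R.f z) v₀) = φ (R.f (c * σ⁻¹ z)) v₀
    have hr : R.Y * R.f z = R.f (σ⁻¹ z) * R.Y := by
      rw [R.rel, ← AlgEquiv.mul_apply, mul_inv_cancel, AlgEquiv.one_apply]
    rw [← Module.End.mul_apply, ← map_mul, hr, map_mul, Module.End.mul_apply, mul_comm c, map_mul, map_mul,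
      Module.End.mul_apply, ← hc]
    rfl
  have keyn : ∀ (m : ℕ) (z : K), (φ R.Y ^ m) (ψ z) = ψ ((twist σ c ^ m) z) := fun m => by
    induction m with
    | zero => intro z; simp
    | succ m ih => intro z; rw [pow_succ', pow_succ', Module.End.mul_apply, Module.End.mul_apply, ih, key]
  have h1 := keyn (Module.finrank k K) 1
  rw [← map_pow, R.pow, AlgHom.commutes, twist_pow_finrank hσ, Module.algebraMap_end_apply,
    Module.algebraMap_end_apply, ← map_smul] at h1
  have h2 := hψinj h1
  simpa [Algebra.smul_def] using ((algebraMap k K).injective (by simpa [Algebra.smul_def] using h2)).symm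

theorem beq_tpow (e : ℕ) : ∃ (B : Type v) (_ : Ring B) (_ : Algebra k B) (_ : Rel σ (b ^ e) B),
    Module.finrank k B = Module.finrank k K ^ 2 ∧ Br.BEq k (CSAGal.tpow k A e) B := by
  induction e with
  | zero =>
    obtain ⟨B, _, _, R', hB⟩ := exists_cyclicAlg hσ (b ^ 0)
    refine ⟨B, inferInstance, inferInstance, R', hB, ?_⟩
    obtain ⟨m, hm, ⟨e⟩⟩ := splits_of_norm hσ R' hB (c := 1) (by simp)
    exact ((Br.BEq.of_algEquiv ((TPow.zeroEquiv k A))).trans (Br.BEq.matrix_left k hm).symm).trans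
      (Br.BEq.of_algEquiv (((Algebra.TensorProduct.lid k B).symm.trans e).symm))
  | succ e ih =>
    obtain ⟨B, _, _, R', hB, hBE⟩ := ih
    obtain ⟨B', _, _, R'', hB'⟩ := exists_cyclicAlg hσ (b ^ e * b)
    rw [pow_succ]
    exact ⟨B', inferInstance, inferInstance, R'', hB', ((Br.BEq.of_algEquiv (TPow.succEquiv k A e).symm).trans
      (hBE.tensor_right A)).trans (beq_mul R' R hσ R'' hB hd hB')⟩

theorem splits_tpow_iff (e : ℕ) :
    Curves.Splits k (CSAGal.tpow k A e) k ↔ ∃ c : K, Algebra.norm k c = (b : k) ^ e := by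
  haveI := R.isCentral hσ hd
  haveI := R.isSimpleRing hσ hd
  have hdK : 0 < Module.finrank k K := Module.finrank_pos
  haveI : FiniteDimensional k A := Module.finite_of_finrank_pos (by rw [hd]; exact pow_pos hdK 2)
  obtain ⟨hc, hs, hf⟩ := TPow.csa k A e
  obtain ⟨B, _, _, R', hB, hBE⟩ := beq_tpow hσ R hd e
  haveI := R'.isCentral hσ hB
  haveI := R'.isSimpleRing hσ hB
  haveI : FiniteDimensional k B := Module.finite_of_finrank_pos (by rw [hB]; exact pow_pos hdK 2)
  refine ⟨fun h => ?_, fun ⟨c, hc'⟩ => ?_⟩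
  · simpa using exists_norm_of_splits hσ R' hB (Br.splits_of_beq hBE.symm k h)
  · exact Br.splits_of_beq hBE k (splits_of_norm hσ R' hB (by simpa using hc'))

end Groth.L11.Cyc
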