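import Groth.Agent.L11.CSA.Index
import Mathlib.GroupTheory.Sylow
import Mathlib.FieldTheory.Galois.Basic

/-!
Base change and the comparison of period and index.
-/

set_option autoImplicit false
universe u v w x

open scoped TensorProduct

namespace Groth.L11.Idx

open Br

variable {k : Type u} [Field k] {A : Type v} [Ring A] [Algebra k A]

theorem beq_baseChange_tpow (L : Type w) [Field L] [Algebra k L] (e : ℕ) :
    BEq L (L ⊗[k] CSAGal.tpow k A e) (CSAGal.tpow L (L ⊗[k] A) e) := by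
  induction e with
  | zero =>
    exact BEq.of_algEquiv (((Algebra.TensorProduct.congr AlgEquiv.refl (TPow.zeroEquiv k A)).trans
      (Algebra.TensorProduct.rid k L L)).trans (TPow.zeroEquiv L _).symm)
  | succ e ih =>
    exact ((BEq.of_algEquiv ((Algebra.TensorProduct.congr AlgEquiv.refl (TPow.succEquiv k A e).symm).trans
      (CSA.distribEquiv k L _ A))).trans (ih.tensor_right _)).trans (BEq.of_algEquiv (TPow.succEquiv L _ e))

/-- `A^{⊗ 1} ≅ A`. -/
noncomputable def oneEquiv : CSAGal.tpow k A 1 ≃ₐ[k] A :=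
  (TPow.succEquiv k A 0).symm.trans
    ((Algebra.TensorProduct.congr (TPow.zeroEquiv k A) AlgEquiv.refl).trans (Algebra.TensorProduct.lid k A))

variable [Algebra.IsCentral k A] [IsSimpleRing A] [FiniteDimensional k A]

theorem exists_period : ∃ p, CSAGal.IsPeriod k A p := by
  classical
  obtain ⟨d, hd⟩ := exists_isIndex (k := k) (A := A)
  have h : ∃ m, 0 < m ∧ Curves.Splits k (CSAGal.tpow k A m) k := ⟨d, hd.1, splits_tpow_index hd⟩
  exact ⟨Nat.find h, (Nat.find_spec h).1, (Nat.find_spec h).2, fun m h0 hlt hm => Nat.find_min h hlt ⟨h0, hm⟩⟩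

theorem beq_of_splits_coprime {a b : ℕ} (hab : Nat.Coprime a b) (ha : Curves.Splits k (CSAGal.tpow k A a) k)
    (hb : Curves.Splits k (CSAGal.tpow k A b) k) : BEq k A k := by
  obtain ⟨p, hp⟩ := exists_period (k := k) (A := A)
  have h1 : p ∣ 1 := hab ▸ Nat.dvd_gcd ((splits_tpow_iff_dvd hp a).mp ha) ((splits_tpow_iff_dvd hp b).mp hb)
  exact (BEq.of_algEquiv oneEquiv.symm).trans ((splits_tpow_iff_beq 1).mp ((splits_tpow_iff_dvd hp 1).mpr h1))

theorem dvd_mul_baseChange {d : ℕ} (hd : CSAGal.IsIndex k A d) (L : Type w) [Field L] [Algebra k L]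
    [FiniteDimensional k L] {d' : ℕ} (hd' : CSAGal.IsIndex L (L ⊗[k] A) d') :
    d ∣ Module.finrank k L * d' := by
  haveI := CSA.isCentral_baseChange k A L
  obtain ⟨F, _, _, hfin, -, hF, hsF⟩ := exists_splitting_field hd'
  letI : Algebra k F := ((algebraMap L F).comp (algebraMap k L)).toAlgebra
  haveI : IsScalarTower k L F := IsScalarTower.of_algebraMap_eq fun _ => rfl
  haveI : FiniteDimensional k F := Module.Finite.trans L F
  obtain ⟨n, hn, ⟨f⟩⟩ := hsF
  have := dvd_of_splits hd F ⟨n, hn, ⟨(Groth.L21.CSA.cancelEquiv k A L F).trans f⟩⟩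
  rwa [← Module.finrank_mul_finrank k L F, hF] at this

theorem baseChange_dvd {d : ℕ} (hd : CSAGal.IsIndex k A d) (L : Type w) [Field L] [Algebra k L]
    {d' : ℕ} (hd' : CSAGal.IsIndex L (L ⊗[k] A) d') : d' ∣ d := by
  obtain ⟨m, D, _, _, hm, _, _, hD, ⟨e⟩, hAD⟩ := exists_division hd
  haveI := CSA.isCentral_baseChange k A L
  haveI := CSA.isCentral_baseChange k D L
  have h := isIndex_of_beq hd' (hAD.baseChange L)
  obtain ⟨r, D', _, _, hr, _, _, hD', ⟨e'⟩, -⟩ := exists_division h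
  have h1 := e'.toLinearEquiv.finrank_eq
  rw [Module.finrank_baseChange, hD, Module.finrank_matrix, Fintype.card_fin, hD'] at h1
  exact ⟨r, (Nat.pow_left_injective two_ne_zero (show d ^ 2 = (d' * r) ^ 2 by rw [h1]; ring))⟩

/-- Every prime dividing the index divides the period. -/
theorem prime_dvd_period {d e : ℕ} (hd : CSAGal.IsIndex k A d) (he : CSAGal.IsPeriod k A e) {q : ℕ}
    (hq : q.Prime) (hqd : q ∣ d) : q ∣ e := by
  classical
  by_contra hqe
  haveI : Fact q.Prime := ⟨hq⟩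
  obtain ⟨K, _, _, hfin, hgal, n, hn, ⟨φ⟩⟩ := Groth.L21.CSA.exists_galois_splitting k A
  let P : Sylow q (K ≃ₐ[k] K) := default
  let K' : IntermediateField k K := IntermediateField.fixedField (P : Subgroup (K ≃ₐ[k] K))
  have h1 : Module.finrank K' K = Nat.card (P : Subgroup (K ≃ₐ[k] K)) := IntermediateField.finrank_fixedField_eq_card _
  obtain ⟨a, ha⟩ : ∃ a, Nat.card (P : Subgroup (K ≃ₐ[k] K)) = q ^ a := IsPGroup.iff_card.mp P.2
  have h2 : ¬ q ∣ Module.finrank k K' := by
    have hmul := Module.finrank_mul_finrank k K' K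
    rw [h1, ← IsGalois.card_aut_eq_finrank k K, ← (P : Subgroup (K ≃ₐ[k] K)).index_mul_card] at hmul
    rw [Nat.eq_of_mul_eq_mul_right Nat.card_pos hmul]
    exact P.not_dvd_index
  haveI := CSA.isCentral_baseChange k A K'
  obtain ⟨d', hd'⟩ := exists_isIndex (k := K') (A := K' ⊗[k] A)
  have hd'q : d' ∣ q ^ a := by
    rw [← ha, ← h1]
    exact dvd_of_splits hd' K ⟨n, hn, ⟨(Groth.L21.CSA.cancelEquiv k A K' K).symm.trans φ⟩⟩
  obtain ⟨_, _, _⟩ := TPow.csa K' (K' ⊗[k] A) e
  have hsp : Curves.Splits K' (CSAGal.tpow K' (K' ⊗[k] A) e) K' :=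
    splits_self_iff.mpr (((beq_baseChange_tpow K' e).symm.trans (((splits_tpow_iff_beq e).mp he.2.1).baseChange K')).trans
      (BEq.of_algEquiv (Algebra.TensorProduct.rid k K' K')))
  have hcop : Nat.Coprime d' e :=
    Nat.Coprime.coprime_dvd_left hd'q (((hq.coprime_iff_not_dvd).mpr hqe).pow_left a)
  obtain ⟨r, hr, ⟨f⟩⟩ := splits_self_iff.mpr (beq_of_splits_coprime hcop (splits_tpow_index hd') hsp)
  exact h2 (hqd.trans (dvd_of_splits hd K' ⟨r, hr, ⟨(Algebra.TensorProduct.lid K' (K' ⊗[k] A)).symm.trans f⟩⟩))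

theorem dvd_pow_period {d e : ℕ} (hd : CSAGal.IsIndex k A d) (he : CSAGal.IsPeriod k A e) : d ∣ e ^ (d - 1) := by
  rcases Nat.eq_or_lt_of_le (Nat.succ_le_of_lt hd.1) with h1 | h1
  · simp [← h1]
  refine (Nat.factorization_le_iff_dvd hd.1.ne' (pow_ne_zero _ he.1.ne')).mp fun q => ?_
  rcases em (q ∈ d.primeFactors) with hq | hq
  · obtain ⟨hqp, hqd, -⟩ := Nat.mem_primeFactors.mp hq
    rw [Nat.factorization_pow, Finsupp.smul_apply, smul_eq_mul]
    have h3 : 1 ≤ e.factorization q := hqp.factorization_pos_of_dvd he.1.ne' (prime_dvd_period hd he hqp hqd)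
    have h4 : d.factorization q < d := (Nat.lt_pow_self hqp.one_lt).trans_le (Nat.le_of_dvd hd.1 (Nat.ordProj_dvd d q))
    calc d.factorization q ≤ (d - 1) * 1 := by omega
      _ ≤ (d - 1) * e.factorization q := Nat.mul_le_mul_left _ h3
  · rw [← Nat.support_factorization, Finsupp.notMem_support_iff] at hq
    rw [hq]; exact Nat.zero_le _

theorem isIndex_dvd_of_baseChange {d d' n : ℕ} (hd : CSAGal.IsIndex k A d) (L : Type w) [Field L] [Algebra k L]
    [FiniteDimensional k L] (hd' : CSAGal.IsIndex L (L ⊗[k] A) d') (hn : Curves.Splits k (CSAGal.tpow k A n) k)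
    (hcop : Nat.Coprime n (Module.finrank k L)) : d ∣ d' := by
  obtain ⟨e, he⟩ := exists_period (k := k) (A := A)
  refine Nat.Coprime.dvd_of_dvd_mul_left (m := Module.finrank k L) ?_ (dvd_mul_baseChange hd L hd')
  exact Nat.coprime_of_dvd' fun q hq hqd hqm => hcop ▸ Nat.dvd_gcd
    ((prime_dvd_period hd he hq hqd).trans ((splits_tpow_iff_dvd he n).mp hn)) hqm

end Groth.L11.Idx
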