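import Groth.Agent.L11.CSA.Tensor
import Mathlib.Algebra.Azumaya.Defs
import Mathlib.RingTheory.SimpleModule.WedderburnArtin
import Mathlib.LinearAlgebra.FiniteDimensional.Lemmas
import Mathlib.LinearAlgebra.FreeModule.Finite.Matrix
import Mathlib.RingTheory.Artinian.Module
import Mathlib.RingTheory.TensorProduct.Finite

set_option autoImplicit false
universe u v w x y

open scoped TensorProduct

namespace Groth.L11.CSA

theorem isArtinianRing_of_finite (k : Type u) [Field k] (A : Type v) [Ring A] [Algebra k A]
    [FiniteDimensional k A] : IsArtinianRing A :=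
  IsArtinianRing.of_finite k A

/-- Any two simple modules over a simple Artinian ring are isomorphic. -/
theorem nonempty_linearEquiv_of_simple {R : Type u} [Ring R] [IsSimpleRing R] [IsArtinianRing R]
    (M : Type v) [AddCommGroup M] [Module R M] [IsSimpleModule R M]
    (N : Type w) [AddCommGroup N] [Module R N] [IsSimpleModule R N] :
    Nonempty (M ≃ₗ[R] N) := by
  let eM := LinearEquiv.ofInjective (LinearMap.inl R M N) LinearMap.inl_injective
  let eN := LinearEquiv.ofInjective (LinearMap.inr R M N) LinearMap.inr_injective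
  have := IsSimpleModule.congr eM.symm
  have := IsSimpleModule.congr eN.symm
  obtain ⟨e⟩ := IsSimpleRing.isIsotypic R (M × N) (LinearMap.range (LinearMap.inr R M N))
    (LinearMap.range (LinearMap.inl R M N))
  exact ⟨eM.trans (e.trans eN.symm)⟩

/-- Finite dimensional modules over a simple algebra are determined by their dimension. -/
theorem nonempty_linearEquiv_of_finrank_eq (k : Type u) [Field k] {R : Type x} [Ring R] [Algebra k R]
    [IsSimpleRing R] [FiniteDimensional k R]
    (M : Type v) [AddCommGroup M] [Module R M] [Module k M] [IsScalarTower k R M] [FiniteDimensional k M]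
    (N : Type w) [AddCommGroup N] [Module R N] [Module k N] [IsScalarTower k R N] [FiniteDimensional k N]
    (h : Module.finrank k M = Module.finrank k N) :
    Nonempty (M ≃ₗ[R] N) := by
  have := isArtinianRing_of_finite k R
  rcases subsingleton_or_nontrivial M with hM | hM
  · have : Subsingleton N := Module.finrank_zero_iff.mp (h ▸ Module.finrank_zero_of_subsingleton)
    exact ⟨LinearEquiv.ofSubsingleton M N⟩
  have : Nontrivial N := Module.nontrivial_of_finrank_pos (R := k) (h ▸ Module.finrank_pos)
  have : Module.Finite R M := Module.Finite.of_restrictScalars_finite k R M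
  have : Module.Finite R N := Module.Finite.of_restrictScalars_finite k R N
  obtain ⟨a, _, S, hS, ⟨eM⟩⟩ := (IsSimpleRing.isIsotypic R M).linearEquiv_fun
  obtain ⟨b, _, T, hT, ⟨eN⟩⟩ := (IsSimpleRing.isIsotypic R N).linearEquiv_fun
  obtain ⟨e⟩ := nonempty_linearEquiv_of_simple (R := R) S T
  have := IsSimpleModule.nontrivial R T
  have hSk : Module.finrank k S = Module.finrank k T := (e.restrictScalars k).finrank_eq
  have hf : FiniteDimensional k T := Module.Finite.of_injective
    ((T.subtype).restrictScalars k) T.injective_subtype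
  have hfS : FiniteDimensional k S := Module.Finite.equiv (e.restrictScalars k).symm
  have hab : a = b := by
    have := (eM.restrictScalars k).finrank_eq
    rw [h, (eN.restrictScalars k).finrank_eq, Module.finrank_pi_fintype, Module.finrank_pi_fintype] at this
    simp only [Finset.sum_const, Finset.card_univ, Fintype.card_fin, smul_eq_mul, hSk] at this
    exact (Nat.eq_of_mul_eq_mul_right Module.finrank_pos this).symm
  subst hab
  exact ⟨eM.trans ((LinearEquiv.piCongrRight fun _ => e).trans eN.symm)⟩

variable (k : Type u) [Field k] (A : Type v) [Ring A] [Algebra k A]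

theorem mulLeftRight_bijective [Algebra.IsCentral k A] [IsSimpleRing A] [FiniteDimensional k A] :
    Function.Bijective (AlgHom.mulLeftRight k A) := by
  have hinj : Function.Injective (AlgHom.mulLeftRight k A) :=
    RingHom.injective (AlgHom.mulLeftRight k A).toRingHom
  refine ⟨hinj, ?_⟩
  refine ((LinearMap.injective_iff_surjective_of_finrank_eq_finrank
    (f := (AlgHom.mulLeftRight k A).toLinearMap) ?_).mp hinj)
  rw [Module.finrank_tensorProduct, Module.finrank_linearMap, ← LinearEquiv.finrank_eq (MulOpposite.opLinearEquiv k : A ≃ₗ[k] Aᵐᵒᵖ)]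

/-- `V` with the `R`-module structure of a representation. -/
@[nolint unusedArguments]
def Tw {k : Type u} [Field k] {R : Type w} [Ring R] [Algebra k R]
    {V : Type x} [AddCommGroup V] [Module k V] (_h : R →ₐ[k] Module.End k V) : Type x := V

section
variable {k : Type u} [Field k] {R : Type w} [Ring R] [Algebra k R]
  {V : Type x} [AddCommGroup V] [Module k V] (h : R →ₐ[k] Module.End k V)

instance : AddCommGroup (Tw h) := inferInstanceAs (AddCommGroup V)
instance : Module k (Tw h) := inferInstanceAs (Module k V)
instance : Module R (Tw h) := Module.compHom V h.toRingHom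
instance : IsScalarTower k R (Tw h) := ⟨fun c r v => by
  change h (c • r) (show V from v) = c • h r (show V from v)
  rw [map_smul]; rfl⟩
instance [FiniteDimensional k V] : FiniteDimensional k (Tw h) := inferInstanceAs (FiniteDimensional k V)

end

/-- Two algebra maps from a simple algebra to `End V`, `V` finite dimensional, are conjugate. -/
theorem exists_conj_of_simple {R : Type w} [Ring R] [Algebra k R] [IsSimpleRing R] [FiniteDimensional k R]
    {V : Type x} [AddCommGroup V] [Module k V] [FiniteDimensional k V]
    (f g : R →ₐ[k] Module.End k V) :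
    ∃ φ : V ≃ₗ[k] V, ∀ r v, φ (f r v) = g r (φ v) := by
  have : ∀ h : R →ₐ[k] Module.End k V, IsScalarTower k R (Tw h) := fun h => inferInstance
  obtain ⟨e⟩ := @nonempty_linearEquiv_of_finrank_eq k _ R _ _ _ _ (Tw f) _ _ _ (this f) _ (Tw g) _ _ _ (this g) (inferInstanceAs (FiniteDimensional k V)) rfl
  exact ⟨e.restrictScalars k, fun r v => e.map_smul r v⟩

/-- **Skolem–Noether**. -/
theorem skolem_noether [Algebra.IsCentral k A] [IsSimpleRing A] [FiniteDimensional k A]
    {B : Type w} [Ring B] [Algebra k B] [IsSimpleRing B] (f g : B →ₐ[k] A) :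
    ∃ x : Aˣ, ∀ b : B, f b = (x : A) * g b * (x⁻¹ : Aˣ) := by
  have : FiniteDimensional k B := Module.Finite.of_injective f.toLinearMap (RingHom.injective f.toRingHom)
  have : IsSimpleRing (Aᵐᵒᵖ ⊗[k] B) := isSimpleRing_tensor
  let σ (h : B →ₐ[k] A) : (Aᵐᵒᵖ ⊗[k] B) →ₐ[k] Module.End k A :=
    (AlgHom.mulLeftRight k A).comp
      ((Algebra.TensorProduct.map h (AlgHom.id k Aᵐᵒᵖ)).comp (Algebra.TensorProduct.comm k Aᵐᵒᵖ B).toAlgHom)
  have hσ : ∀ h a b x, σ h (a ⊗ₜ b) x = h b * x * a.unop := fun h a b x => by simp [σ]
  obtain ⟨φ, hφ⟩ := exists_conj_of_simple k (σ g) (σ f)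
  have hright : ∀ x, φ x = φ 1 * x := fun x => by
    have := hφ (MulOpposite.op x ⊗ₜ 1) 1
    simpa [hσ] using this
  obtain ⟨w, hw⟩ := φ.surjective 1
  have huv : φ 1 * w = 1 := by rw [← hright, hw]
  have hvu : w * φ 1 = 1 := by
    apply φ.injective
    rw [hright, ← mul_assoc, huv, one_mul]
  refine ⟨⟨φ 1, w, huv, hvu⟩, fun b => ?_⟩
  have h1 := hφ (1 ⊗ₜ b) 1
  simp only [hσ, MulOpposite.unop_one, mul_one] at h1
  rw [hright] at h1
  change f b = φ 1 * g b * w
  rw [h1, mul_assoc, huv, mul_one]

end Groth.L11.CSA
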