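import Groth.Agent.L11.CSA.Skolem
import Mathlib.Algebra.Central.Matrix
import Mathlib.RingTheory.SimpleRing.Matrix
import Mathlib.RingTheory.SimpleModule.IsAlgClosed
import Mathlib.FieldTheory.JacobsonNoether
import Mathlib.FieldTheory.IsSepClosed
import Mathlib.FieldTheory.IsAlgClosed.AlgebraicClosure

set_option autoImplicit false
universe u v w x

open scoped TensorProduct

namespace Groth.L11.CSA

variable (k : Type u) [Field k] (A : Type v) [Ring A] [Algebra k A]

instance isSimpleRing_baseChange [Algebra.IsCentral k A] [IsSimpleRing A]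
    (B : Type w) [Ring B] [Algebra k B] [IsSimpleRing B] : IsSimpleRing (B ⊗[k] A) :=
  IsSimpleRing.of_ringEquiv (Algebra.TensorProduct.comm k A B).toRingEquiv (isSimpleRing_tensor)

theorem isCentral_baseChange [Algebra.IsCentral k A] [Nontrivial A] (K : Type w) [Field K] [Algebra k K] :
    Algebra.IsCentral K (K ⊗[k] A) where
  out z hz := by
    rw [Subalgebra.mem_center_iff] at hz
    obtain ⟨c, hc⟩ := exists_one_tmul_of_commute (Algebra.TensorProduct.comm k K A z) fun a => by
      have := congrArg (Algebra.TensorProduct.comm k K A) (hz ((1 : K) ⊗ₜ a))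
      simpa [map_mul] using this
    refine Algebra.mem_bot.mpr ⟨c, ?_⟩
    apply (Algebra.TensorProduct.comm k K A).injective
    rw [hc]; simp [Algebra.TensorProduct.algebraMap_apply]

/-- A CSA over an algebraically closed field is a matrix algebra. -/
theorem exists_algEquiv_matrix_of_isSepClosed [IsSepClosed k] [Algebra.IsCentral k A] [IsSimpleRing A]
    [FiniteDimensional k A] : ∃ n : ℕ, n ≠ 0 ∧ Nonempty (A ≃ₐ[k] Matrix (Fin n) (Fin n) k) := by
  have := isArtinianRing_of_finite k A
  obtain ⟨n, hn, D, hD, hA, hDf, ⟨e⟩⟩ := IsSimpleRing.exists_algEquiv_matrix_divisionRing_finite k A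
  have hDc : Algebra.IsCentral k D := ⟨fun x hx => by
    have : Matrix.scalar (Fin n) x ∈ Subalgebra.center k (Matrix (Fin n) (Fin n) D) :=
      Subalgebra.mem_center_iff.mpr fun M => ((Matrix.scalar_commute x (fun y => (Subalgebra.mem_center_iff.mp hx y).symm) M).eq).symm
    have : e.symm (Matrix.scalar (Fin n) x) ∈ Subalgebra.center k A :=
      Subalgebra.mem_center_iff.mpr fun a => e.injective (by rw [map_mul, map_mul, e.apply_symm_apply, Subalgebra.mem_center_iff.mp this (e a)])
    rw [Algebra.IsCentral.center_eq_bot, Algebra.mem_bot] at this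
    obtain ⟨r, hr⟩ := this
    refine Algebra.mem_bot.mpr ⟨r, ?_⟩
    have := congrArg (fun z => e z 0 0) hr
    simpa [Matrix.algebraMap_eq_diagonal] using this⟩
  have hbot : (algebraMap k D).range = ⊤ := by
    by_contra hne
    have hne' : ¬ ∀ x : D, x ∈ (algebraMap k D).range := fun h => hne (eq_top_iff.mpr fun x _ => h x)
    obtain ⟨x, hxr, hxs⟩ := JacobsonNoether.exists_separable_and_not_isCentral' (L := k) (D := D)
      (fun h => hne' (fun x => by
        have : x ∈ (⊥ : Subalgebra k D) := h ▸ trivial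
        exact Algebra.mem_bot.mp this))
    have hdeg := IsSepClosed.degree_eq_one_of_irreducible k
      (minpoly.irreducible (Algebra.IsIntegral.isIntegral x)) hxs
    exact hxr (Algebra.mem_bot.mpr (minpoly.degree_eq_one_iff.mp hdeg))
  have hs : Function.Surjective (algebraMap k D) := RingHom.range_eq_top.mp hbot
  let eD : k ≃ₐ[k] D := AlgEquiv.ofBijective (Algebra.ofId k D) ⟨(algebraMap k D).injective, hs⟩
  exact ⟨n, hn.ne, ⟨e.trans eD.symm.mapMatrix⟩⟩

/-- A CSA splits over every separably closed extension. -/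
theorem exists_algEquiv_matrix_baseChange [Algebra.IsCentral k A] [IsSimpleRing A] [FiniteDimensional k A]
    (K : Type w) [Field K] [Algebra k K] [IsSepClosed K] :
    ∃ n : ℕ, n ≠ 0 ∧ Nonempty (K ⊗[k] A ≃ₐ[K] Matrix (Fin n) (Fin n) K) :=
  have := isCentral_baseChange k A K
  exists_algEquiv_matrix_of_isSepClosed K (K ⊗[k] A)

theorem isSquare_finrank [Algebra.IsCentral k A] [IsSimpleRing A] [FiniteDimensional k A] :
    ∃ n : ℕ, n ≠ 0 ∧ Module.finrank k A = n ^ 2 := by
  obtain ⟨n, hn, ⟨e⟩⟩ := exists_algEquiv_matrix_baseChange k A (AlgebraicClosure k)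
  refine ⟨n, hn, ?_⟩
  rw [← Module.finrank_baseChange (R := AlgebraicClosure k) (S := k) (M' := A), e.toLinearEquiv.finrank_eq,
    Module.finrank_matrix, Module.finrank_self, Fintype.card_fin]
  ring

end Groth.L11.CSA
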