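import Groth.Agent.L11.CSA.BrauerEq
import Groth.Agent.L11.CSA.Split

/-!
Splitting only depends on the Brauer class.
-/

set_option autoImplicit false
universe u v w x y

open scoped TensorProduct

namespace Groth.L11.Br

variable {k : Type u} [Field k] {A : Type v} [Ring A] [Algebra k A] {B : Type w} [Ring B] [Algebra k B]

/-- `K ⊗ M_n(A) ≅ M_n(K ⊗ A)` over `K`. -/
noncomputable def matBaseChange (K : Type x) [Field K] [Algebra k K] (A : Type v) [Ring A] [Algebra k A] (n : ℕ) :
    K ⊗[k] Matrix (Fin n) (Fin n) A ≃ₐ[K] Matrix (Fin n) (Fin n) (K ⊗[k] A) :=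
  AlgEquiv.ofRingEquiv (f := ((Algebra.TensorProduct.comm k K (Matrix (Fin n) (Fin n) A)).trans
    ((matTensor A K n).trans (Algebra.TensorProduct.comm k A K).mapMatrix)).toRingEquiv) fun c => by
    have key : ∀ (a : A) (i j : Fin n),
        ((Algebra.TensorProduct.comm k K (Matrix (Fin n) (Fin n) A)).trans
          ((matTensor A K n).trans (Algebra.TensorProduct.comm k A K).mapMatrix)) (c ⊗ₜ[k] (1 : Matrix (Fin n) (Fin n) A)) i j =
            if i = j then c ⊗ₜ[k] (1 : A) else 0 := by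
      intro a i j
      have h1 : matrixEquivTensor (Fin n) k A (1 : Matrix (Fin n) (Fin n) A) = (1 : A) ⊗ₜ[k] (1 : Matrix (Fin n) (Fin n) k) := by
        rw [map_one, Algebra.TensorProduct.one_def]
      simp only [AlgEquiv.trans_apply, Algebra.TensorProduct.comm_tmul, matTensor, Algebra.TensorProduct.congr_apply,
        Algebra.TensorProduct.map_tmul, AlgEquiv.coe_algHom, AlgEquiv.coe_refl, id_eq, h1,
        AlgEquiv.mapMatrix_apply, Matrix.map_apply]
      simp [Matrix.one_apply, apply_ite (Algebra.TensorProduct.comm k A K)]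
    change ((Algebra.TensorProduct.comm k K (Matrix (Fin n) (Fin n) A)).trans
          ((matTensor A K n).trans (Algebra.TensorProduct.comm k A K).mapMatrix)) (c ⊗ₜ[k] (1 : Matrix (Fin n) (Fin n) A)) = _
    ext i j
    rw [key 1 i j, Matrix.algebraMap_matrix_apply]
    rfl

theorem BEq.baseChange (h : BEq k A B) (K : Type x) [Field K] [Algebra k K] : BEq K (K ⊗[k] A) (K ⊗[k] B) := by
  obtain ⟨n, m, hn, hm, ⟨e⟩⟩ := h
  exact ⟨n, m, hn, hm, ⟨(matBaseChange K A n).symm.trans
    ((Algebra.TensorProduct.congr AlgEquiv.refl e).trans (matBaseChange K B m))⟩⟩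

/-- Splitting fields depend only on the Brauer class. -/
theorem splits_of_beq [Algebra.IsCentral k A] [IsSimpleRing A] [FiniteDimensional k A]
    (h : BEq k A B) (K : Type x) [Field K] [Algebra k K] (hB : Curves.Splits k B K) : Curves.Splits k A K := by
  obtain ⟨m, hm, ⟨φ⟩⟩ := hB
  obtain ⟨a, ha0, ha⟩ := CSA.isSquare_finrank k A
  haveI : Algebra.IsCentral K (K ⊗[k] A) := CSA.isCentral_baseChange k A K
  haveI : IsSimpleRing (K ⊗[k] A) := CSA.isSimpleRing_baseChange k A K
  haveI : Nonempty (Fin a) := ⟨⟨0, Nat.pos_of_ne_zero ha0⟩⟩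
  have h1 : BEq K (K ⊗[k] A) (Matrix (Fin a) (Fin a) K) :=
    (((h.baseChange K).trans (BEq.of_algEquiv φ)).trans (BEq.matrix_left K hm)).trans (BEq.matrix_left K ha0).symm
  obtain ⟨e⟩ := algEquiv_of_beq h1 (by
    rw [Module.finrank_baseChange, Module.finrank_matrix, Fintype.card_fin, Module.finrank_self, mul_one]
    rw [ha, sq])
  exact ⟨a, ha0, ⟨e⟩⟩

end Groth.L11.Br
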