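import Groth.Agent.L11.CSA.TPowSplit
import Groth.Agent.L11.CSA.BrauerSplit
import Groth.Agent.L21.CSA.SplitBasic
import Mathlib.LinearAlgebra.Matrix.Unique

/-!
Index and period of central simple algebras.
-/

set_option autoImplicit false
universe u v w x

open scoped TensorProduct

namespace Groth.L11.Idx

open Br

variable {k : Type u} [Field k]

/-- `M₁(K) ≅ K`. -/
def matOne (K : Type w) [CommRing K] : Matrix (Fin 1) (Fin 1) K ≃ₐ[K] K :=
  AlgEquiv.ofLinearEquiv Matrix.uniqueLinearEquiv (by simp) (fun M N => by simp [Matrix.mul_apply])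

section

variable {A : Type v} [Ring A] [Algebra k A] [Algebra.IsCentral k A] [IsSimpleRing A] [FiniteDimensional k A]

theorem exists_isIndex : ∃ d, CSAGal.IsIndex k A d := by
  haveI := CSA.isArtinianRing_of_finite k A
  obtain ⟨m, hm, D, hD, hA, hDf, ⟨e⟩⟩ := IsSimpleRing.exists_algEquiv_matrix_divisionRing_finite k A
  haveI := Groth.L21.CSA.isCentral_of_matrix k e
  obtain ⟨d, hd0, hd⟩ := CSA.isSquare_finrank k D
  exact ⟨d, Nat.pos_of_ne_zero hd0, m, D, hD, hA, Nat.pos_of_ne_zero (NeZero.ne m), by rw [hd, sq], ⟨e⟩⟩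

theorem exists_division {d : ℕ} (h : CSAGal.IsIndex k A d) :
    ∃ (m : ℕ) (D : Type v) (_ : DivisionRing D) (_ : Algebra k D), m ≠ 0 ∧ Algebra.IsCentral k D ∧
      FiniteDimensional k D ∧ Module.finrank k D = d ^ 2 ∧ Nonempty (A ≃ₐ[k] Matrix (Fin m) (Fin m) D) ∧ BEq k A D := by
  obtain ⟨hd, m, D, _, _, hm, hD, ⟨e⟩⟩ := h
  haveI : NeZero m := ⟨hm.ne'⟩
  exact ⟨m, D, inferInstance, inferInstance, hm.ne', Groth.L21.CSA.isCentral_of_matrix k e,
    Module.finite_of_finrank_pos (by rw [hD]; exact pow_pos hd 2), hD, ⟨e⟩,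
    (BEq.of_algEquiv e).trans (BEq.matrix_left D hm.ne')⟩

theorem isIndex_eq_of_beq {B : Type w} [Ring B] [Algebra k B] [Algebra.IsCentral k B] [IsSimpleRing B]
    [FiniteDimensional k B] {d d' : ℕ} (h : CSAGal.IsIndex k A d) (h' : CSAGal.IsIndex k B d')
    (hAB : BEq k A B) : d = d' := by
  obtain ⟨m, D, _, _, hm, _, _, hD, ⟨e⟩, hAD⟩ := exists_division h
  obtain ⟨m', D', _, _, hm', _, _, hD', ⟨e'⟩, hBD⟩ := exists_division h'
  obtain ⟨a, c, ha, hc, ⟨f⟩⟩ := (hAD.symm.trans hAB).trans hBD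
  haveI : Nonempty (Fin a) := ⟨⟨0, Nat.pos_of_ne_zero ha⟩⟩
  haveI : Nonempty (Fin c) := ⟨⟨0, Nat.pos_of_ne_zero hc⟩⟩
  obtain ⟨⟨g⟩, -⟩ := CSA.nonempty_algEquiv_of_matrix f
  have := g.toLinearEquiv.finrank_eq
  rw [hD, hD'] at this
  exact Nat.pow_left_injective two_ne_zero this

theorem isIndex_of_beq {B : Type w} [Ring B] [Algebra k B] [Algebra.IsCentral k B] [IsSimpleRing B]
    [FiniteDimensional k B] {d : ℕ} (h : CSAGal.IsIndex k A d) (hAB : BEq k A B) : CSAGal.IsIndex k B d := by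
  obtain ⟨d', hd'⟩ := exists_isIndex (k := k) (A := B)
  exact (isIndex_eq_of_beq h hd' hAB) ▸ hd'

theorem splits_self_iff : Curves.Splits k A k ↔ BEq k A k := by
  refine ⟨fun ⟨n, hn, ⟨e⟩⟩ => ((BEq.of_algEquiv ((Algebra.TensorProduct.lid k A).symm.trans e))).trans
    (BEq.matrix_left k hn), fun h => splits_of_beq h k ⟨1, one_ne_zero, ⟨(Algebra.TensorProduct.lid k k).trans
      (matOne k).symm⟩⟩⟩

theorem dvd_of_splits {d : ℕ} (h : CSAGal.IsIndex k A d) (L : Type w) [Field L] [Algebra k L]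
    [FiniteDimensional k L] (hL : Curves.Splits k A L) : d ∣ Module.finrank k L := by
  obtain ⟨m, D, _, _, hm, _, _, hD, ⟨e⟩, hAD⟩ := exists_division h
  obtain ⟨n, hn, ⟨f⟩⟩ := splits_of_beq hAD.symm L hL
  exact Groth.L21.CSA.dvd_finrank_of_splits k D d hD L f

theorem exists_splitting_field {d : ℕ} (h : CSAGal.IsIndex k A d) :
    ∃ (F : Type u) (_ : Field F) (_ : Algebra k F), FiniteDimensional k F ∧ Algebra.IsSeparable k F ∧
      Module.finrank k F = d ∧ Curves.Splits k A F := by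
  obtain ⟨m, D, _, _, hm, _, _, hD, ⟨e⟩, hAD⟩ := exists_division h
  obtain ⟨L, hcomm, hsep, hL⟩ := Groth.L21.CSA.exists_separable_self_centralizing k D
  letI : CommRing L :=
    { (inferInstance : Ring L) with mul_comm := fun a b => Subtype.ext (hcomm a a.2 b b.2) }
  haveI : IsDomain L := Subalgebra.isDomain L
  have hf : IsField L :=
    (Algebra.IsIntegral.isField_iff_isField (R := k) (algebraMap k L).injective).mp (Field.toIsField k)
  letI : Field L := hf.toField
  obtain ⟨α, hα⟩ := Field.exists_primitive_element k L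
  let φ : AdjoinRoot (minpoly k α) ≃ₐ[k] L :=
    ((IntermediateField.adjoinRootEquivAdjoin k (Algebra.IsIntegral.isIntegral α)).trans
      ((IntermediateField.equivOfEq hα).trans IntermediateField.topEquiv))
  haveI : Fact (Irreducible (minpoly k α)) := ⟨minpoly.irreducible (Algebra.IsIntegral.isIntegral α)⟩
  haveI : Algebra.IsSeparable k L := hsep
  haveI : FiniteDimensional k (AdjoinRoot (minpoly k α)) := Module.Finite.equiv φ.symm.toLinearEquiv
  obtain ⟨n, hn, ⟨f⟩⟩ := Groth.L21.CSA.exists_algEquiv_matrix_of_self_centralizing k D L _ φ hL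
  have hdim := (Groth.L11.CSA.centralizer_simple k D L).2
  rw [hL, hD, ← sq] at hdim
  have hLd : Module.finrank k L = d := (Nat.pow_left_injective two_ne_zero hdim).symm
  exact ⟨AdjoinRoot (minpoly k α), inferInstance, inferInstance, inferInstance,
    AlgEquiv.Algebra.isSeparable φ.symm, φ.toLinearEquiv.finrank_eq.trans hLd, splits_of_beq hAD _ ⟨n, hn, ⟨f⟩⟩⟩

theorem beq_tpow {B : Type w} [Ring B] [Algebra k B] (h : BEq k A B) (e : ℕ) :
    BEq k (CSAGal.tpow k A e) (CSAGal.tpow k B e) := by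
  induction e with
  | zero => exact BEq.of_algEquiv ((TPow.zeroEquiv k A).trans (TPow.zeroEquiv k B).symm)
  | succ e ih =>
    exact ((BEq.of_algEquiv (TPow.succEquiv k A e).symm).trans ((ih.tensor_right A).trans (h.tensor_left _))).trans
      (BEq.of_algEquiv (TPow.succEquiv k B e))

theorem beq_tpow_add (a b : ℕ) : BEq k (CSAGal.tpow k A (a + b)) (CSAGal.tpow k A a ⊗[k] CSAGal.tpow k A b) := by
  induction b with
  | zero =>
    exact BEq.of_algEquiv ((Algebra.TensorProduct.rid k k (CSAGal.tpow k A a)).symm.trans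
      (Algebra.TensorProduct.congr AlgEquiv.refl (TPow.zeroEquiv k A).symm))
  | succ b ih =>
    exact ((BEq.of_algEquiv (TPow.succEquiv k A (a + b)).symm).trans (ih.tensor_right A)).trans
      (BEq.of_algEquiv ((Algebra.TensorProduct.assoc k k k _ _ A).trans
        (Algebra.TensorProduct.congr AlgEquiv.refl (TPow.succEquiv k A b))))

theorem beq_tpow_mul (a b : ℕ) : BEq k (CSAGal.tpow k A (a * b)) (CSAGal.tpow k (CSAGal.tpow k A a) b) := by
  induction b with
  | zero => exact BEq.of_algEquiv ((TPow.zeroEquiv k A).trans (TPow.zeroEquiv k _).symm)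
  | succ b ih =>
    rw [Nat.mul_succ]
    exact ((beq_tpow_add (a * b) a).trans (ih.tensor_right _)).trans (BEq.of_algEquiv (TPow.succEquiv k _ b))

theorem splits_tpow_iff_beq (e : ℕ) : Curves.Splits k (CSAGal.tpow k A e) k ↔ BEq k (CSAGal.tpow k A e) k := by
  obtain ⟨_, _, _⟩ := TPow.csa k A e
  exact splits_self_iff

theorem beq_one_of_dvd {p m : ℕ} (h : BEq k (CSAGal.tpow k A p) k) (hdvd : p ∣ m) : BEq k (CSAGal.tpow k A m) k := by
  obtain ⟨c, rfl⟩ := hdvd
  induction c with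
  | zero => exact BEq.of_algEquiv (TPow.zeroEquiv k A)
  | succ c ih =>
    rw [Nat.mul_succ]
    exact ((beq_tpow_add _ _).trans ((ih.tensor_right _).trans (h.tensor_left k))).trans
      (BEq.of_algEquiv (Algebra.TensorProduct.lid k k))

theorem beq_one_cancel {a b : ℕ} (ha : BEq k (CSAGal.tpow k A a) k) (hab : BEq k (CSAGal.tpow k A (a + b)) k) :
    BEq k (CSAGal.tpow k A b) k :=
  (((BEq.of_algEquiv (Algebra.TensorProduct.lid k (CSAGal.tpow k A b)).symm).trans (ha.symm.tensor_right _)).trans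
    (beq_tpow_add a b).symm).trans hab

theorem splits_tpow_iff_dvd {p : ℕ} (hp : CSAGal.IsPeriod k A p) (m : ℕ) :
    Curves.Splits k (CSAGal.tpow k A m) k ↔ p ∣ m := by
  obtain ⟨hp0, hps, hmin⟩ := hp
  rw [splits_tpow_iff_beq] at hps ⊢
  refine ⟨fun h => ?_, beq_one_of_dvd hps⟩
  refine Nat.dvd_of_mod_eq_zero ?_
  by_contra hne
  refine hmin (m % p) (Nat.pos_of_ne_zero hne) (Nat.mod_lt _ hp0) ((splits_tpow_iff_beq _).mpr ?_)
  refine beq_one_cancel (beq_one_of_dvd hps (dvd_mul_right p (m / p))) ?_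
  rwa [Nat.div_add_mod]

theorem splits_tpow_of_beq {n : ℕ} {B : Type w} [Ring B] [Algebra k B] [Algebra.IsCentral k B] [IsSimpleRing B]
    [FiniteDimensional k B] (hn : Module.finrank k B = n ^ 2) (h : BEq k A B) :
    Curves.Splits k (CSAGal.tpow k A n) k := by
  obtain ⟨_, _, _⟩ := TPow.csa k A n
  exact splits_of_beq (beq_tpow h n) k (TPowSplit.splits_tpow B hn)

theorem splits_tpow_index {d : ℕ} (h : CSAGal.IsIndex k A d) : Curves.Splits k (CSAGal.tpow k A d) k := by
  obtain ⟨m, D, _, _, hm, _, _, hD, ⟨e⟩, hAD⟩ := exists_division h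
  exact splits_tpow_of_beq hD hAD

theorem period_dvd_index {d p : ℕ} (h : CSAGal.IsIndex k A d) (hp : CSAGal.IsPeriod k A p) : p ∣ d :=
  (splits_tpow_iff_dvd hp d).mp (splits_tpow_index h)

theorem splits_tpow_of_splits (L : Type w) [Field L] [Algebra k L] (hL : Curves.Splits k A L) (e : ℕ) :
    Curves.Splits k (CSAGal.tpow k A e) L := by
  induction e with
  | zero => exact ⟨1, one_ne_zero, ⟨((Algebra.TensorProduct.congr AlgEquiv.refl (TPow.zeroEquiv k A)).trans
      (Algebra.TensorProduct.rid k L L)).trans (matOne L).symm⟩⟩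
  | succ e ih =>
    obtain ⟨_, _, _⟩ := TPow.csa k A e
    obtain ⟨n, hn, ⟨f⟩⟩ := ih
    obtain ⟨n', hn', ⟨f'⟩⟩ := hL
    refine ⟨n * n', mul_ne_zero hn hn', ⟨(Algebra.TensorProduct.congr AlgEquiv.refl (TPow.succEquiv k A e).symm).trans ?_⟩⟩
    exact Groth.L11.CSA.tensorSplit f f'

end

end Groth.L11.Idx
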