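import Groth.Prelude.Def_GSzCSA
import Groth.Agent.L11.CSA.Split
import Mathlib.FieldTheory.Galois.Basic
import Mathlib.LinearAlgebra.FiniteDimensional.Lemmas
import Mathlib.LinearAlgebra.Matrix.ToLin
import Mathlib.GroupTheory.SpecificGroups.Cyclic

/-!
Cyclic algebras: normal form, centrality, simplicity, universal property, splitting by the field.
-/

set_option autoImplicit false
universe u v w x

open scoped TensorProduct

namespace Groth.L11.Cyc

variable {k : Type u} [Field k] {K : Type v} [Field K] [Algebra k K] [FiniteDimensional k K]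
  {σ : K ≃ₐ[k] K}

theorem orderOf_gen [IsGalois k K] (hσ : ∀ τ : K ≃ₐ[k] K, τ ∈ Subgroup.zpowers σ) : orderOf σ = Module.finrank k K := by
  rw [orderOf_eq_card_of_forall_mem_zpowers hσ, IsGalois.card_aut_eq_finrank]

theorem pow_inj [IsGalois k K] (hσ : ∀ τ : K ≃ₐ[k] K, τ ∈ Subgroup.zpowers σ)
    {i j : Fin (Module.finrank k K)} (h : σ ^ (i : ℕ) = σ ^ (j : ℕ)) : i = j :=
  Fin.ext (pow_injOn_Iio_orderOf (by rw [Set.mem_Iio, orderOf_gen hσ]; exact i.isLt)
    (by rw [Set.mem_Iio, orderOf_gen hσ]; exact j.isLt) h)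

theorem pow_bijective [IsGalois k K] (hσ : ∀ τ : K ≃ₐ[k] K, τ ∈ Subgroup.zpowers σ) :
    Function.Bijective fun i : Fin (Module.finrank k K) => σ ^ (i : ℕ) := by
  classical
  refine (Nat.bijective_iff_injective_and_card _).mpr ⟨fun i j h => pow_inj hσ h, ?_⟩
  rw [Nat.card_eq_fintype_card, Fintype.card_fin, IsGalois.card_aut_eq_finrank]

variable (σ) in
/-- A pair satisfying the relations of the cyclic algebra of `(K, σ, b)`. -/
structure Rel (b : kˣ) (C : Type w) [Ring C] [Algebra k C] where
  f : K →ₐ[k] C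
  Y : C
  rel : ∀ x : K, f x * Y = Y * f (σ x)
  pow : Y ^ Module.finrank k K = algebraMap k C (b : k)

namespace Rel

variable {b : kˣ} {C : Type w} [Ring C] [Algebra k C] (R : Rel σ b C)

theorem isUnit : IsUnit R.Y :=
  (isUnit_pow_iff (Module.finrank_pos (R := k) (M := K)).ne').mp
    (R.pow ▸ (b.isUnit.map (algebraMap k C)))

theorem rel_pow (x : K) : ∀ n : ℕ, R.f x * R.Y ^ n = R.Y ^ n * R.f ((σ ^ n) x)
  | 0 => by simp
  | n + 1 => by
    rw [pow_succ, ← mul_assoc, rel_pow x n, mul_assoc, R.rel, ← mul_assoc]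
    rw [pow_succ' σ n, AlgEquiv.mul_apply]

/-- `c ↦ ∑ Y ^ i * c i`. -/
noncomputable def Ψ : (Fin (Module.finrank k K) → K) →ₗ[k] C :=
  ∑ i : Fin (Module.finrank k K), LinearMap.mulLeft k (R.Y ^ (i : ℕ)) ∘ₗ R.f.toLinearMap ∘ₗ LinearMap.proj i

theorem Ψ_apply (c : Fin (Module.finrank k K) → K) : R.Ψ c = ∑ i : Fin (Module.finrank k K), R.Y ^ (i : ℕ) * R.f (c i) := by
  simp [Ψ]

theorem Ψ_single (i : Fin (Module.finrank k K)) (c : K) : R.Ψ (Pi.single i c) = R.Y ^ (i : ℕ) * R.f c := by
  rw [R.Ψ_apply, Finset.sum_eq_single i (fun j _ hj => by simp [hj]) (by simp), Pi.single_eq_same]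

theorem mul_Ψ (z : K) (c : Fin (Module.finrank k K) → K) :
    R.f z * R.Ψ c = R.Ψ fun i : Fin (Module.finrank k K) => (σ ^ (i : ℕ)) z * c i := by
  simp only [R.Ψ_apply, Finset.mul_sum, ← mul_assoc, R.rel_pow z]
  simp only [mul_assoc, ← map_mul]

theorem Ψ_mul (z : K) (c : Fin (Module.finrank k K) → K) : R.Ψ c * R.f z = R.Ψ fun i => c i * z := by
  simp only [R.Ψ_apply, Finset.sum_mul, mul_assoc, ← map_mul]

theorem pow_mul_mem (n : ℕ) (c : K) : R.Y ^ n * R.f c =
    R.Ψ (Pi.single ⟨n % Module.finrank k K, Nat.mod_lt _ Module.finrank_pos⟩ ((b : k) ^ (n / Module.finrank k K) • c)) := by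
  rw [R.Ψ_single]
  conv_lhs => rw [← Nat.mod_add_div n (Module.finrank k K), pow_add, pow_mul, R.pow, ← map_pow, mul_assoc,
    ← Algebra.smul_def, ← map_smul]

theorem Ψ_surjective (hgen : Algebra.adjoin k (Set.range R.f ∪ {R.Y}) = ⊤) : Function.Surjective R.Ψ := by
  intro a
  let S : Subalgebra k C :=
    { carrier := {g | ∀ c, g * R.Ψ c ∈ LinearMap.range R.Ψ}
      mul_mem' := fun {g h} hg hh c => by
        obtain ⟨c', hc'⟩ := hh c
        rw [mul_assoc, ← hc']; exact hg c'
      add_mem' := fun {g h} hg hh c => by rw [add_mul]; exact add_mem (hg c) (hh c)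
      algebraMap_mem' := fun r c => by rw [← Algebra.smul_def]; exact Submodule.smul_mem _ r ⟨c, rfl⟩ }
  have hS : Algebra.adjoin k (Set.range R.f ∪ {R.Y}) ≤ S := Algebra.adjoin_le <| by
    rintro g (⟨z, rfl⟩ | rfl) c
    · exact ⟨_, (R.mul_Ψ z c).symm⟩
    · rw [R.Ψ_apply, Finset.mul_sum]
      refine Submodule.sum_mem _ fun i _ => ?_
      rw [← mul_assoc, ← pow_succ', R.pow_mul_mem]
      exact ⟨_, rfl⟩
  rw [hgen] at hS
  obtain ⟨c, hc⟩ := hS (Algebra.mem_top (x := a)) (Pi.single ⟨0, Module.finrank_pos⟩ 1)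
  exact ⟨c, by rw [hc, R.Ψ_single, map_one, pow_zero, mul_one, mul_one]⟩

variable [IsGalois k K] (hσ : ∀ τ : K ≃ₐ[k] K, τ ∈ Subgroup.zpowers σ)

include R hσ

theorem Ψ_injective [Nontrivial C] : Function.Injective R.Ψ := by
  classical
  rw [← LinearMap.ker_eq_bot, Submodule.eq_bot_iff]
  suffices ∀ (s : Finset (Fin (Module.finrank k K))) (c : Fin (Module.finrank k K) → K),
      (∀ i ∉ s, c i = 0) → R.Ψ c = 0 → c = 0 from fun c hc => this Finset.univ c (by simp) hc
  intro s
  induction s using Finset.strongInduction with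
  | H s ih =>
    intro c hc h0
    by_contra hne
    obtain ⟨j, hj⟩ := Function.ne_iff.mp hne
    have hjs : j ∈ s := by by_contra h; exact hj (hc j h)
    by_cases hs : ∀ i, i ≠ j → c i = 0
    · have : c = Pi.single j (c j) := by
        funext i
        rcases eq_or_ne i j with rfl | hi
        · simp
        · simp [hs i hi, hi]
      rw [this, R.Ψ_single, (R.isUnit.pow _).mul_right_eq_zero, map_eq_zero_iff R.f (RingHom.injective R.f.toRingHom)] at h0
      exact hj h0
    · push Not at hs
      obtain ⟨i, hij, hi⟩ := hs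
      obtain ⟨z, hz⟩ : ∃ z, (σ ^ (i : ℕ)) z ≠ (σ ^ (j : ℕ)) z := by
        by_contra hh
        push Not at hh
        exact hij (pow_inj hσ (AlgEquiv.ext hh))
      let c' : Fin (Module.finrank k K) → K := fun l => ((σ ^ (l : ℕ)) z - (σ ^ (j : ℕ)) z) * c l
      have h0' : R.Ψ c' = 0 := by
        have e : c' = (fun l : Fin (Module.finrank k K) => (σ ^ (l : ℕ)) z * c l) - fun l => c l * (σ ^ (j : ℕ)) z := by
          funext l; simp only [c', Pi.sub_apply]; ring
        rw [e, map_sub, ← R.mul_Ψ, ← R.Ψ_mul, h0, mul_zero, zero_mul, sub_zero]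
      have := ih (s.erase j) (Finset.erase_ssubset hjs) c' (fun l hl => by
        rcases eq_or_ne l j with rfl | hl'
        · simp [c']
        · simp [c', hc l fun h => hl (Finset.mem_erase.mpr ⟨hl', h⟩)]) h0'
      rcases mul_eq_zero.mp (congrFun this i) with h | h
      · exact hz (sub_eq_zero.mp h)
      · exact hi h

theorem Ψ_bijective (hdim : Module.finrank k C = Module.finrank k K ^ 2) : Function.Bijective R.Ψ := by
  have hpos : 0 < Module.finrank k C := by rw [hdim]; exact pow_pos Module.finrank_pos 2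
  haveI : Module.Finite k C := Module.finite_of_finrank_pos hpos
  haveI : Nontrivial C := Module.nontrivial_of_finrank_pos hpos
  have hinj := R.Ψ_injective hσ
  exact ⟨hinj, (LinearMap.injective_iff_surjective_of_finrank_eq_finrank (f := R.Ψ) (by
    rw [Module.finrank_pi_fintype, Finset.sum_const, Finset.card_univ, Fintype.card_fin, hdim, sq, smul_eq_mul])).mp hinj⟩

theorem adjoin_eq_top (hdim : Module.finrank k C = Module.finrank k K ^ 2) :
    Algebra.adjoin k (Set.range R.f ∪ {R.Y}) = ⊤ := by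
  rw [eq_top_iff]
  intro a _
  obtain ⟨c, rfl⟩ := (R.Ψ_bijective hσ hdim).2 a
  rw [R.Ψ_apply]
  refine Subalgebra.sum_mem _ fun i _ => mul_mem (pow_mem ?_ _) ?_
  · exact Algebra.subset_adjoin (Set.mem_union_right _ (Set.mem_singleton R.Y))
  · exact Algebra.subset_adjoin (Set.mem_union_left _ (Set.mem_range_self _))

theorem isCyclicAlg (hdim : Module.finrank k C = Module.finrank k K ^ 2) : CSAGal.IsCyclicAlg k K σ b C :=
  ⟨R.f, R.Y, R.pow, R.rel, R.adjoin_eq_top hσ hdim, Module.finrank_pos, hdim⟩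

theorem eq_of_commute_field (hdim : Module.finrank k C = Module.finrank k K ^ 2) {a : C}
    (ha : ∀ z, R.f z * a = a * R.f z) : ∃ c, a = R.f c := by
  classical
  obtain ⟨c, rfl⟩ := (R.Ψ_bijective hσ hdim).2 a
  let o : Fin (Module.finrank k K) := ⟨0, Module.finrank_pos⟩
  have hc : c = Pi.single o (c o) := by
    funext i
    rcases eq_or_ne i o with rfl | hi
    · simp
    · rw [Pi.single_eq_of_ne hi]
      obtain ⟨z, hz⟩ : ∃ z, (σ ^ (i : ℕ)) z ≠ z := by
        by_contra hh
        push Not at hh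
        exact hi (pow_inj hσ (show σ ^ (i : ℕ) = σ ^ (o : ℕ) by
          rw [show ((o : ℕ)) = 0 from rfl, pow_zero]; exact AlgEquiv.ext hh))
      have h := ha z
      rw [R.mul_Ψ, R.Ψ_mul] at h
      have h2 : ((σ ^ (i : ℕ)) z - z) * c i = 0 := by
        rw [sub_mul, congrFun ((R.Ψ_bijective hσ hdim).1 h) i]; ring
      exact (mul_eq_zero.mp h2).resolve_left (sub_ne_zero.mpr hz)
  exact ⟨c o, by rw [hc, R.Ψ_single]; simp [o]⟩

theorem isCentral (hdim : Module.finrank k C = Module.finrank k K ^ 2) : Algebra.IsCentral k C where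
  out a ha := by
    rw [Subalgebra.mem_center_iff] at ha
    obtain ⟨c, rfl⟩ := R.eq_of_commute_field hσ hdim fun z => ha (R.f z)
    have hpos : 0 < Module.finrank k C := by rw [hdim]; exact pow_pos Module.finrank_pos 2
    haveI : Nontrivial C := Module.nontrivial_of_finrank_pos hpos
    have h1 := ha R.Y
    rw [R.rel] at h1
    have h2 : σ c = c := R.f.toRingHom.injective (R.isUnit.mul_left_cancel h1.symm)
    have h3 : ∀ τ : K ≃ₐ[k] K, τ c = c := by
      intro τ
      obtain ⟨n, rfl⟩ := Subgroup.mem_zpowers_iff.mp (hσ τ)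
      have : σ ∈ MulAction.stabilizer (K ≃ₐ[k] K) c := h2
      exact MulAction.mem_stabilizer_iff.mp (Subgroup.zpow_mem _ this n)
    obtain ⟨r, rfl⟩ := IntermediateField.mem_bot.mp ((IsGalois.mem_bot_iff_fixed (F := k) c).mpr h3)
    exact Algebra.mem_bot.mpr ⟨r, (R.f.commutes r).symm⟩

theorem isSimpleRing (hdim : Module.finrank k C = Module.finrank k K ^ 2) : IsSimpleRing C := by
  classical
  have hpos : 0 < Module.finrank k C := by rw [hdim]; exact pow_pos Module.finrank_pos 2
  haveI : Nontrivial C := Module.nontrivial_of_finrank_pos hpos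
  refine IsSimpleRing.of_eq_bot_or_eq_top fun I => ?_
  by_cases hI : I = ⊥
  · exact Or.inl hI
  refine Or.inr ?_
  suffices ∀ (s : Finset (Fin (Module.finrank k K))) (c : Fin (Module.finrank k K) → K),
      (∀ i ∉ s, c i = 0) → c ≠ 0 → R.Ψ c ∈ I → I = ⊤ by
    obtain ⟨a, ha, ha0⟩ : ∃ a ∈ I, a ≠ 0 := by
      by_contra hh
      push Not at hh
      exact hI (eq_bot_iff.mpr fun a ha => (TwoSidedIdeal.mem_bot C).mpr (hh a ha))
    obtain ⟨c, rfl⟩ := (R.Ψ_bijective hσ hdim).2 a
    exact this Finset.univ c (by simp) (fun h => ha0 (by rw [h, map_zero])) ha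
  intro s
  induction s using Finset.strongInduction with
  | H s ih =>
    intro c hc hne hmem
    obtain ⟨j, hj⟩ := Function.ne_iff.mp hne
    have hjs : j ∈ s := by by_contra h; exact hj (hc j h)
    by_cases hs : ∀ i, i ≠ j → c i = 0
    · have : c = Pi.single j (c j) := by
        funext i
        rcases eq_or_ne i j with rfl | hi
        · simp
        · simp [hs i hi, hi]
      rw [this, R.Ψ_single] at hmem
      obtain ⟨u, hu⟩ := (R.isUnit.pow (j : ℕ)).mul ((IsUnit.mk0 _ hj).map R.f)
      rw [← hu] at hmem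
      have := I.mul_mem_left ((u⁻¹ : Cˣ) : C) _ hmem
      rw [Units.inv_mul] at this
      exact (TwoSidedIdeal.one_mem_iff I).mp this
    · push Not at hs
      obtain ⟨i, hij, hi⟩ := hs
      obtain ⟨z, hz⟩ : ∃ z, (σ ^ (i : ℕ)) z ≠ (σ ^ (j : ℕ)) z := by
        by_contra hh
        push Not at hh
        exact hij (pow_inj hσ (AlgEquiv.ext hh))
      let c' : Fin (Module.finrank k K) → K := fun l => ((σ ^ (l : ℕ)) z - (σ ^ (j : ℕ)) z) * c l
      have hm : R.Ψ c' ∈ I := by
        have e : c' = (fun l : Fin (Module.finrank k K) => (σ ^ (l : ℕ)) z * c l) - fun l => c l * (σ ^ (j : ℕ)) z := by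
          funext l; simp only [c', Pi.sub_apply]; ring
        rw [e, map_sub, ← R.mul_Ψ, ← R.Ψ_mul]
        exact I.sub_mem (I.mul_mem_left _ _ hmem) (I.mul_mem_right _ _ hmem)
      refine ih (s.erase j) (Finset.erase_ssubset hjs) c' (fun l hl => by
        rcases eq_or_ne l j with rfl | hl'
        · simp [c']
        · simp [c', hc l fun h => hl (Finset.mem_erase.mpr ⟨hl', h⟩)]) (fun h => ?_) hm
      rcases mul_eq_zero.mp (congrFun h i) with h | h
      · exact hz (sub_eq_zero.mp h)
      · exact hi h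

/-- The linear equivalence with `K ^ d`. -/
noncomputable def equiv (hdim : Module.finrank k C = Module.finrank k K ^ 2) :
    (Fin (Module.finrank k K) → K) ≃ₗ[k] C :=
  LinearEquiv.ofBijective R.Ψ (R.Ψ_bijective hσ hdim)

/-- The universal property. -/
noncomputable def lift (hdim : Module.finrank k C = Module.finrank k K ^ 2) {C' : Type x} [Ring C'] [Algebra k C']
    (R' : Rel σ b C') : C →ₐ[k] C' := by
  let F : C →ₗ[k] C' := R'.Ψ ∘ₗ (R.equiv hσ hdim).symm.toLinearMap
  have hF : ∀ c, F (R.Ψ c) = R'.Ψ c := fun c => congrArg R'.Ψ ((R.equiv hσ hdim).symm_apply_apply c)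
  have hpow : ∀ (n : ℕ) (c : K), F (R.Y ^ n * R.f c) = R'.Y ^ n * R'.f c := fun n c => by
    rw [R.pow_mul_mem, hF, ← R'.pow_mul_mem]
  have h1 : F 1 = 1 := by simpa using hpow 0 1
  have hg : ∀ g a, F (g * a) = F g * F a := by
    let S : Subalgebra k C :=
      { carrier := {g | ∀ a, F (g * a) = F g * F a}
        mul_mem' := fun {g h} hg hh a => by rw [mul_assoc, hg, hh, hg, mul_assoc]
        add_mem' := fun {g h} hg hh a => by rw [add_mul, map_add, map_add, hg, hh, add_mul]
        algebraMap_mem' := fun r a => by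
          rw [← Algebra.smul_def, map_smul, Algebra.algebraMap_eq_smul_one, map_smul, h1, smul_mul_assoc, one_mul] }
    have hS : Algebra.adjoin k (Set.range R.f ∪ {R.Y}) ≤ S := Algebra.adjoin_le <| by
      rintro g (⟨z, rfl⟩ | rfl) a <;> obtain ⟨c, rfl⟩ := (R.Ψ_bijective hσ hdim).2 a
      · rw [R.mul_Ψ, hF, hF, ← R'.mul_Ψ]
        congr 1
        simpa using (hpow 0 z).symm
      · rw [hF, show F R.Y = R'.Y by simpa using hpow 1 1, R.Ψ_apply, R'.Ψ_apply, Finset.mul_sum, Finset.mul_sum, map_sum]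
        exact Finset.sum_congr rfl fun i _ => by rw [← mul_assoc, ← pow_succ', hpow, pow_succ', mul_assoc]
    rw [R.adjoin_eq_top hσ hdim] at hS
    exact fun g => hS (Algebra.mem_top (x := g))
  exact AlgHom.ofLinearMap F h1 hg

theorem lift_Y (hdim : Module.finrank k C = Module.finrank k K ^ 2) {C' : Type x} [Ring C'] [Algebra k C']
    (R' : Rel σ b C') : R.lift hσ hdim R' R.Y = R'.Y := by
  have e : R.Y = R.Ψ (Pi.single ⟨1 % Module.finrank k K, Nat.mod_lt _ Module.finrank_pos⟩
      ((b : k) ^ (1 / Module.finrank k K) • (1 : K))) := by rw [← R.pow_mul_mem, map_one, mul_one, pow_one]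
  conv_lhs => rw [e]
  change R'.Ψ ((R.equiv hσ hdim).symm (R.equiv hσ hdim _)) = _
  rw [LinearEquiv.symm_apply_apply, ← R'.pow_mul_mem, map_one, mul_one, pow_one]

theorem lift_f (hdim : Module.finrank k C = Module.finrank k K ^ 2) {C' : Type x} [Ring C'] [Algebra k C']
    (R' : Rel σ b C') (z : K) : R.lift hσ hdim R' (R.f z) = R'.f z := by
  have e : R.f z = R.Ψ (Pi.single ⟨0, Module.finrank_pos⟩ z) := by rw [R.Ψ_single]; simp
  rw [e]
  change R'.Ψ ((R.equiv hσ hdim).symm (R.equiv hσ hdim _)) = _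
  rw [LinearEquiv.symm_apply_apply, R'.Ψ_single]; simp

end Rel

theorem exists_rel {b : kˣ} {A : Type w} [Ring A] [Algebra k A] (h : CSAGal.IsCyclicAlg k K σ b A) :
    ∃ _ : Rel σ b A, Module.finrank k A = Module.finrank k K ^ 2 := by
  obtain ⟨ι, y, hy, hr, _, _, hd⟩ := h
  exact ⟨⟨ι, y, hr, hy⟩, hd⟩

section MaxSubfield

variable {A : Type w} [Ring A] [Algebra k A]

/-- `A` as a right `K`-vector space through `ι`. -/
@[nolint unusedArguments]
def RV (_ι : K →ₐ[k] A) : Type w := A

variable (ι : K →ₐ[k] A)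

/-- The underlying element. -/
def RV.v (x : RV ι) : A := x

instance : AddCommGroup (RV ι) := inferInstanceAs (AddCommGroup A)
instance : Module k (RV ι) := inferInstanceAs (Module k A)
instance [Nontrivial A] : Nontrivial (RV ι) := inferInstanceAs (Nontrivial A)
instance [FiniteDimensional k A] : FiniteDimensional k (RV ι) := inferInstanceAs (FiniteDimensional k A)

instance : Module K (RV ι) where
  smul c x := show A from RV.v ι x * ι c
  one_smul x := by change RV.v ι x * ι 1 = RV.v ι x; rw [map_one, mul_one]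
  mul_smul c d x := by
    change RV.v ι x * ι (c * d) = RV.v ι x * ι d * ι c
    rw [mul_assoc, ← map_mul, mul_comm c d]
  smul_zero c := zero_mul (ι c)
  smul_add c x y := add_mul (RV.v ι x) (RV.v ι y) (ι c)
  add_smul c d x := by change RV.v ι x * ι (c + d) = RV.v ι x * ι c + RV.v ι x * ι d; rw [map_add, mul_add]
  zero_smul x := by change RV.v ι x * ι 0 = (0 : A); rw [map_zero, mul_zero]

instance : IsScalarTower k K (RV ι) := ⟨fun r c x => by
  change RV.v ι x * ι (r • c) = r • (RV.v ι x * ι c)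
  rw [map_smul, mul_smul_comm]⟩

include ι in
/-- A central simple algebra containing a subfield of degree the square root of its dimension
splits over it. -/
theorem splits_of_maximal_subfield [Algebra.IsCentral k A] [IsSimpleRing A]
    (hdim : Module.finrank k A = Module.finrank k K ^ 2) : Curves.Splits k A K := by
  classical
  have hpos : 0 < Module.finrank k A := by rw [hdim]; exact pow_pos Module.finrank_pos 2
  haveI : FiniteDimensional k A := Module.finite_of_finrank_pos hpos
  haveI : Module.Finite K (RV ι) := Module.Finite.of_restrictScalars_finite k K (RV ι)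
  let ρ : A →ₐ[k] Module.End K (RV ι) :=
    { toFun := fun a =>
        { toFun := fun x => show A from a * RV.v ι x
          map_add' := fun x y => mul_add a (RV.v ι x) (RV.v ι y)
          map_smul' := fun c x => (mul_assoc a (RV.v ι x) (ι c)).symm }
      map_one' := LinearMap.ext fun x => one_mul (RV.v ι x)
      map_mul' := fun a b => LinearMap.ext fun x => mul_assoc a b (RV.v ι x)
      map_zero' := LinearMap.ext fun x => zero_mul (RV.v ι x)
      map_add' := fun a b => LinearMap.ext fun x => add_mul a b (RV.v ι x)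
      commutes' := fun r => LinearMap.ext fun x => (Algebra.smul_def r (RV.v ι x)).symm }
  let L : K ⊗[k] A →ₐ[K] Module.End K (RV ι) :=
    Algebra.TensorProduct.lift (Algebra.ofId K _) ρ fun c a => Algebra.commutes c _
  haveI : IsSimpleRing (K ⊗[k] A) := CSA.isSimpleRing_baseChange k A K
  have hinj : Function.Injective L := RingHom.injective L.toRingHom
  have hd : Module.finrank K (RV ι) = Module.finrank k K := by
    have h := Module.finrank_mul_finrank k K (RV ι)
    rw [show Module.finrank k (RV ι) = Module.finrank k A from rfl, hdim, sq] at h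
    exact Nat.eq_of_mul_eq_mul_left Module.finrank_pos h
  have hbij : Function.Bijective L.toLinearMap := by
    refine ⟨hinj, (LinearMap.injective_iff_surjective_of_finrank_eq_finrank ?_).mp hinj⟩
    rw [Module.finrank_baseChange, Module.finrank_linearMap, hd, hdim, sq]
  exact ⟨Module.finrank K (RV ι), by rw [hd]; exact Module.finrank_pos.ne',
    ⟨(AlgEquiv.ofBijective L hbij).trans (algEquivMatrix (Module.finBasis K (RV ι)))⟩⟩

end MaxSubfield

end Groth.L11.Cyc
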