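import Groth.Agent.L11.CSA.Skolem
import Mathlib.FieldTheory.Galois.Basic
import Mathlib.Algebra.Central.Matrix
import Mathlib.RingTheory.SimpleRing.Matrix
import Mathlib.LinearAlgebra.Matrix.Charpoly.Coeff
import Mathlib.RingTheory.TensorProduct.Maps

/-!
The reduced characteristic polynomial has coefficients in the base field.
-/

set_option autoImplicit false
universe u v w

open scoped TensorProduct

namespace Groth.L11.CSA

variable {k : Type u} [Field k] {A : Type v} [Ring A] [Algebra k A] {K : Type w} [Field K] [Algebra k K]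
  {n : ℕ}

/-- The matrix representation attached to a splitting. -/
noncomputable def repr (φ : K ⊗[k] A ≃ₐ[K] Matrix (Fin n) (Fin n) K) : A →ₐ[k] Matrix (Fin n) (Fin n) K :=
  (φ.toAlgHom.restrictScalars k).comp Algebra.TensorProduct.includeRight

theorem repr_apply (φ : K ⊗[k] A ≃ₐ[K] Matrix (Fin n) (Fin n) K) (a : A) : repr φ a = φ (1 ⊗ₜ a) := rfl

theorem span_repr (φ : K ⊗[k] A ≃ₐ[K] Matrix (Fin n) (Fin n) K) :
    Submodule.span K (Set.range (repr φ)) = ⊤ := by
  rw [eq_top_iff]
  intro X _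
  obtain ⟨z, rfl⟩ := φ.surjective X
  induction z using TensorProduct.induction_on with
  | zero => simp
  | tmul c a =>
    rw [← mul_one c, ← smul_eq_mul, ← TensorProduct.smul_tmul', map_smul]
    exact Submodule.smul_mem _ _ (Submodule.subset_span ⟨a, rfl⟩)
  | add x y hx hy => rw [map_add]; exact Submodule.add_mem _ (hx trivial) (hy trivial)

theorem exists_conj_repr [NeZero n] (φ : K ⊗[k] A ≃ₐ[K] Matrix (Fin n) (Fin n) K) (σ : K ≃ₐ[k] K) :
    ∃ U : (Matrix (Fin n) (Fin n) K)ˣ, ∀ a : A, (repr φ a).map σ =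
      (U : Matrix (Fin n) (Fin n) K) * repr φ a * ((U⁻¹ : (Matrix (Fin n) (Fin n) K)ˣ) : Matrix (Fin n) (Fin n) K) := by
  let s : K ⊗[k] A →ₐ[k] K ⊗[k] A := Algebra.TensorProduct.map σ.symm.toAlgHom (AlgHom.id k A)
  let ψ : Matrix (Fin n) (Fin n) K →ₐ[K] Matrix (Fin n) (Fin n) K :=
    { ((σ.toRingEquiv.toRingHom).mapMatrix.comp
        ((φ.toRingEquiv.toRingHom).comp (s.toRingHom.comp φ.symm.toRingEquiv.toRingHom))) with
      commutes' := fun c => by
        show ((φ (s (φ.symm (algebraMap K _ c)))).map σ) = _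
        rw [AlgEquiv.commutes]
        have : s (algebraMap K (K ⊗[k] A) c) = algebraMap K (K ⊗[k] A) (σ.symm c) := by
          simp [s, Algebra.TensorProduct.algebraMap_apply]
        rw [this, AlgEquiv.commutes]
        ext i j
        by_cases h : i = j <;> simp [Matrix.algebraMap_eq_diagonal, h] }
  have hψ : ∀ a, ψ (repr φ a) = (repr φ a).map σ := fun a => by
    show (φ (s (φ.symm (φ (1 ⊗ₜ[k] a))))).map σ = _
    rw [φ.symm_apply_apply]
    simp [s, repr_apply]
  obtain ⟨U, hU⟩ := skolem_noether K _ ψ (AlgHom.id K _)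
  exact ⟨U, fun a => by rw [← hψ, hU, AlgHom.id_apply]⟩

variable [FiniteDimensional k K] [IsGalois k K] [NeZero n]

theorem charpoly_repr_mem (φ : K ⊗[k] A ≃ₐ[K] Matrix (Fin n) (Fin n) K) (a : A) :
    ∃ P : Polynomial k, P.map (algebraMap k K) = (repr φ a).charpoly := by
  suffices h : ∀ i, (repr φ a).charpoly.coeff i ∈ Set.range (algebraMap k K) from
    (Polynomial.mem_lifts _).mp ((Polynomial.lifts_iff_coeff_lifts _).mpr h)
  intro i
  refine (IsGalois.mem_range_algebraMap_iff_fixed (F := k) (E := K) _).mpr fun σ => ?_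
  obtain ⟨U, hU⟩ := exists_conj_repr φ σ
  have h1 : (repr φ a).charpoly.map σ.toRingEquiv.toRingHom = (repr φ a).charpoly := by
    rw [← Matrix.charpoly_map]
    change ((repr φ a).map σ).charpoly = _
    rw [hU, Matrix.coe_units_inv, Matrix.charpoly_units_conj]
  have h2 := congrArg (fun P => Polynomial.coeff P i) h1
  simp only [Polynomial.coeff_map] at h2
  exact h2

theorem trace_repr_mem (φ : K ⊗[k] A ≃ₐ[K] Matrix (Fin n) (Fin n) K) (a : A) :
    ∃ t : k, algebraMap k K t = (repr φ a).trace := by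
  obtain ⟨P, hP⟩ := charpoly_repr_mem φ a
  exact ⟨-P.coeff (n - 1), by
    rw [Matrix.trace_eq_neg_charpoly_coeff, ← hP, Polynomial.coeff_map, map_neg, Fintype.card_fin]⟩

theorem det_repr_mem (φ : K ⊗[k] A ≃ₐ[K] Matrix (Fin n) (Fin n) K) (a : A) :
    ∃ t : k, algebraMap k K t = (repr φ a).det := by
  obtain ⟨P, hP⟩ := charpoly_repr_mem φ a
  exact ⟨(-1) ^ n * P.coeff 0, by
    rw [Matrix.det_eq_sign_charpoly_coeff, ← hP, Polynomial.coeff_map, map_mul, map_pow, map_neg, map_one,
      Fintype.card_fin]⟩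

end Groth.L11.CSA
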