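import Groth.Agent.L11.CSA.RedCharpoly
import Groth.Agent.L11.CSA.Split
import Groth.Agent.L21.CSA.SepSubfield
import Groth.Prelude.Def_GSzCSA
import Mathlib.LinearAlgebra.Matrix.Kronecker
import Mathlib.LinearAlgebra.Matrix.Charpoly.LinearMap
import Mathlib.LinearAlgebra.Charpoly.BaseChange

/-!
The reduced characteristic polynomial, reduced norm and reduced trace.
-/

set_option autoImplicit false
universe u v w x y

open scoped TensorProduct
open Polynomial

namespace Groth.L11.RN

open Groth.L11 (CSA.repr)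

variable {k : Type u} [Field k] {A : Type v} [Ring A] [Algebra k A]

/-- The composite splitting over a bigger field. -/
noncomputable def extend {K : Type w} [Field K] [Algebra k K] (Ω : Type x) [Field Ω] [Algebra k Ω] [Algebra K Ω]
    [IsScalarTower k K Ω] {n : ℕ} (φ : K ⊗[k] A ≃ₐ[K] Matrix (Fin n) (Fin n) K) :
    Ω ⊗[k] A ≃ₐ[Ω] Matrix (Fin n) (Fin n) Ω :=
  ((Groth.L21.CSA.cancelEquiv k A K Ω).trans (Algebra.TensorProduct.congr AlgEquiv.refl φ)).trans
    (Groth.L21.CSA.matrixBaseChange K Ω (Fin n))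

theorem repr_extend {K : Type w} [Field K] [Algebra k K] (Ω : Type x) [Field Ω] [Algebra k Ω] [Algebra K Ω]
    [IsScalarTower k K Ω] {n : ℕ} (φ : K ⊗[k] A ≃ₐ[K] Matrix (Fin n) (Fin n) K) (a : A) :
    CSA.repr (extend Ω φ) a = (CSA.repr φ a).map (algebraMap K Ω) := by
  simp only [CSA.repr_apply, extend, AlgEquiv.trans_apply]
  have h1 : Groth.L21.CSA.cancelEquiv k A K Ω ((1 : Ω) ⊗ₜ a) = (1 : Ω) ⊗ₜ[K] ((1 : K) ⊗ₜ[k] a) := by
    simp [Groth.L21.CSA.cancelEquiv]
  rw [h1]
  simp [Groth.L21.CSA.matrixBaseChange]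

theorem size_eq {K : Type w} [Field K] [Algebra k K] {n : ℕ} (φ : K ⊗[k] A ≃ₐ[K] Matrix (Fin n) (Fin n) K) :
    Module.finrank k A = n ^ 2 := by
  have h := φ.toLinearEquiv.finrank_eq
  rw [Module.finrank_baseChange, Module.finrank_matrix, Fintype.card_fin, Module.finrank_self, mul_one, ← sq] at h
  exact h

theorem size_unique {K : Type w} [Field K] [Algebra k K] {n : ℕ} (φ : K ⊗[k] A ≃ₐ[K] Matrix (Fin n) (Fin n) K)
    {K' : Type x} [Field K'] [Algebra k K'] {n' : ℕ} (φ' : K' ⊗[k] A ≃ₐ[K'] Matrix (Fin n') (Fin n') K') : n = n' :=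
  Nat.pow_left_injective two_ne_zero ((size_eq φ).symm.trans (size_eq φ'))

theorem charpoly_extend_eq {Ω : Type x} [Field Ω] [Algebra k Ω] {n : ℕ} [NeZero n]
    (φ φ' : Ω ⊗[k] A ≃ₐ[Ω] Matrix (Fin n) (Fin n) Ω) (a : A) :
    (CSA.repr φ a).charpoly = (CSA.repr φ' a).charpoly := by
  obtain ⟨U, hU⟩ := CSA.skolem_noether Ω _ (φ'.toAlgHom.comp φ.symm.toAlgHom) (AlgHom.id Ω _)
  have h := hU (CSA.repr φ a)
  simp only [CSA.repr_apply, AlgHom.comp_apply, AlgHom.id_apply, AlgEquiv.coe_algHom] at h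
  rw [φ.symm_apply_apply] at h
  rw [CSA.repr_apply φ', h, Matrix.coe_units_inv, Matrix.charpoly_units_conj, CSA.repr_apply]

section Fields

variable (k) in
theorem exists_common_field (K : Type w) [Field K] [Algebra k K] (K' : Type x) [Field K'] [Algebra k K'] :
    ∃ (Ω : Type (max w x)) (_ : Field Ω) (_ : Algebra k Ω) (_ : Algebra K Ω) (_ : Algebra K' Ω),
      IsScalarTower k K Ω ∧ IsScalarTower k K' Ω := by
  haveI : Nontrivial (K ⊗[k] K') :=
    (Algebra.TensorProduct.includeRight_injective (A := K) (algebraMap k K).injective :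
      Function.Injective (Algebra.TensorProduct.includeRight : K' →ₐ[k] K ⊗[k] K')).nontrivial
  obtain ⟨m, hm⟩ := Ideal.exists_maximal (K ⊗[k] K')
  letI := Ideal.Quotient.field m
  let f := (Ideal.Quotient.mkₐ k m).comp (Algebra.TensorProduct.includeLeft : K →ₐ[k] K ⊗[k] K')
  let g := (Ideal.Quotient.mkₐ k m).comp (Algebra.TensorProduct.includeRight : K' →ₐ[k] K ⊗[k] K')
  exact ⟨(K ⊗[k] K') ⧸ m, inferInstance, inferInstance, f.toRingHom.toAlgebra, g.toRingHom.toAlgebra,
    @IsScalarTower.of_algebraMap_eq k K _ _ _ _ _ f.toRingHom.toAlgebra _ fun r => (f.commutes r).symm,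
    @IsScalarTower.of_algebraMap_eq k K' _ _ _ _ _ g.toRingHom.toAlgebra _ fun r => (g.commutes r).symm⟩

end Fields

variable [Algebra.IsCentral k A] [IsSimpleRing A] [FiniteDimensional k A]

theorem size_ne_zero {K : Type w} [Field K] [Algebra k K] {n : ℕ} (φ : K ⊗[k] A ≃ₐ[K] Matrix (Fin n) (Fin n) K) :
    n ≠ 0 := by
  rintro rfl
  have := size_eq φ
  have h0 := Module.finrank_pos (R := k) (M := A)
  simp at this
  omega

theorem charpoly_indep {K : Type w} [Field K] [Algebra k K] {n : ℕ} (φ : K ⊗[k] A ≃ₐ[K] Matrix (Fin n) (Fin n) K)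
    {K' : Type x} [Field K'] [Algebra k K'] (φ' : K' ⊗[k] A ≃ₐ[K'] Matrix (Fin n) (Fin n) K') (a : A) (P : k[X])
    (hP : P.map (algebraMap k K) = (CSA.repr φ a).charpoly) :
    P.map (algebraMap k K') = (CSA.repr φ' a).charpoly := by
  haveI : NeZero n := ⟨size_ne_zero φ⟩
  obtain ⟨Ω, _, _, _, _, _, _⟩ := exists_common_field k K K'
  refine Polynomial.map_injective _ (algebraMap K' Ω).injective ?_
  rw [Polynomial.map_map, ← IsScalarTower.algebraMap_eq, ← Matrix.charpoly_map]
  erw [← repr_extend Ω φ' a]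
  rw [charpoly_extend_eq (extend Ω φ') (extend Ω φ), repr_extend, IsScalarTower.algebraMap_eq k K Ω,
    ← Polynomial.map_map, hP, ← Matrix.charpoly_map]

variable (k) in
theorem exists_rcp (a : A) : ∃ P : k[X], ∃ (K : Type u) (_ : Field K) (_ : Algebra k K) (n : ℕ)
    (φ : K ⊗[k] A ≃ₐ[K] Matrix (Fin n) (Fin n) K), P.map (algebraMap k K) = (CSA.repr φ a).charpoly := by
  obtain ⟨K, _, _, _, _, n, hn, ⟨φ⟩⟩ := Groth.L21.CSA.exists_galois_splitting k A
  haveI : NeZero n := ⟨hn⟩
  obtain ⟨P, hP⟩ := CSA.charpoly_repr_mem φ a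
  exact ⟨P, K, inferInstance, inferInstance, n, φ, hP⟩

variable (k) in
/-- The reduced characteristic polynomial. -/
noncomputable def rcp (a : A) : k[X] := (exists_rcp k a).choose

theorem rcp_spec {K : Type w} [Field K] [Algebra k K] {n : ℕ} (φ : K ⊗[k] A ≃ₐ[K] Matrix (Fin n) (Fin n) K) (a : A) :
    (rcp k a).map (algebraMap k K) = (CSA.repr φ a).charpoly := by
  obtain ⟨K₀, _, _, n₀, φ₀, h⟩ := (exists_rcp k a).choose_spec
  obtain rfl := size_unique φ₀ φ
  exact charpoly_indep φ₀ φ a _ h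

theorem rcp_monic (a : A) : (rcp k a).Monic := by
  obtain ⟨K₀, _, _, n₀, φ₀, h⟩ := (exists_rcp k a).choose_spec
  exact Polynomial.monic_of_injective (algebraMap k K₀).injective (h ▸ Matrix.charpoly_monic _)

theorem natDegree_rcp (a : A) {n : ℕ} (hn : Module.finrank k A = n ^ 2) : (rcp k a).natDegree = n := by
  obtain ⟨K₀, _, _, n₀, φ₀, h⟩ := (exists_rcp k a).choose_spec
  rw [← Polynomial.natDegree_map (f := algebraMap k K₀), rcp, h, Matrix.charpoly_natDegree_eq_dim, Fintype.card_fin]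
  exact Nat.pow_left_injective two_ne_zero ((size_eq φ₀).symm.trans hn)

variable (k A) in
/-- The degree. -/
noncomputable def deg : ℕ := (CSA.isSquare_finrank k A).choose

theorem finrank_eq_deg_sq : Module.finrank k A = deg k A ^ 2 := by
  exact (CSA.isSquare_finrank k A).choose_spec.2

theorem deg_ne_zero : deg k A ≠ 0 := (CSA.isSquare_finrank k A).choose_spec.1

variable (k A) in
/-- The reduced norm. -/
noncomputable def nrd : A →* k where
  toFun a := (-1) ^ deg k A * (rcp k a).coeff 0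
  map_one' := by
    obtain ⟨K, _, _, _, _, n, hn, ⟨φ⟩⟩ := Groth.L21.CSA.exists_galois_splitting k A
    obtain rfl : deg k A = n := Nat.pow_left_injective two_ne_zero (finrank_eq_deg_sq.symm.trans (size_eq φ))
    refine (algebraMap k K).injective ?_
    have h := Matrix.det_eq_sign_charpoly_coeff (CSA.repr φ (1 : A))
    rw [← rcp_spec φ, coeff_map, map_one, Matrix.det_one, Fintype.card_fin] at h
    rw [map_mul, map_pow, map_neg, map_one, ← h]
  map_mul' a b := by
    obtain ⟨K, _, _, _, _, n, hn, ⟨φ⟩⟩ := Groth.L21.CSA.exists_galois_splitting k A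
    obtain rfl : deg k A = n := Nat.pow_left_injective two_ne_zero (finrank_eq_deg_sq.symm.trans (size_eq φ))
    refine (algebraMap k K).injective ?_
    have h : ∀ x : A, algebraMap k K ((-1) ^ deg k A * (rcp k x).coeff 0) = (CSA.repr φ x).det := fun x => by
      rw [Matrix.det_eq_sign_charpoly_coeff, ← rcp_spec φ, coeff_map, Fintype.card_fin, map_mul, map_pow, map_neg,
        map_one]
    rw [h, map_mul (algebraMap k K), h, h, map_mul, Matrix.det_mul]

theorem nrd_spec {K : Type w} [Field K] [Algebra k K] {n : ℕ} (φ : K ⊗[k] A ≃ₐ[K] Matrix (Fin n) (Fin n) K) (a : A) :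
    algebraMap k K (nrd k A a) = (CSA.repr φ a).det := by
  obtain rfl : deg k A = n := Nat.pow_left_injective two_ne_zero (finrank_eq_deg_sq.symm.trans (size_eq φ))
  rw [Matrix.det_eq_sign_charpoly_coeff, ← rcp_spec φ, coeff_map, Fintype.card_fin]
  simp [nrd]

theorem isRedNorm_nrd : CSAGal.IsRedNorm k A (nrd k A) := by
  obtain ⟨K, _, _, hf, _, n, hn, ⟨φ⟩⟩ := Groth.L21.CSA.exists_galois_splitting k A
  exact ⟨K, inferInstance, inferInstance, hf, n, φ, fun a => nrd_spec φ a⟩

theorem isRedNorm_eq {N : A →* k} (hN : CSAGal.IsRedNorm k A N) : N = nrd k A := by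
  obtain ⟨K, _, _, _, n, φ, h⟩ := hN
  exact MonoidHom.ext fun a => (algebraMap k K).injective ((h a).trans (nrd_spec φ a).symm)

theorem isRedTrace_eq {T : A →+ k} (hT : CSAGal.IsRedTrace k A T) (a : A) :
    T a = -(rcp k a).coeff (deg k A - 1) := by
  obtain ⟨K, _, _, _, n, φ, h⟩ := hT
  obtain rfl : deg k A = n := Nat.pow_left_injective two_ne_zero (finrank_eq_deg_sq.symm.trans (size_eq φ))
  haveI : NeZero (deg k A) := ⟨deg_ne_zero⟩
  refine (algebraMap k K).injective ?_
  rw [h a, map_neg, ← coeff_map, rcp_spec φ]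
  have := Matrix.trace_eq_neg_charpoly_coeff (CSA.repr φ a)
  rwa [Fintype.card_fin] at this

theorem aeval_rcp (a : A) : aeval a (rcp k a) = 0 := by
  obtain ⟨K₀, _, _, n₀, φ₀, h⟩ := (exists_rcp k a).choose_spec
  haveI : NeZero n₀ := ⟨size_ne_zero φ₀⟩
  refine RingHom.injective (CSA.repr φ₀).toRingHom ?_
  rw [map_zero]
  change CSA.repr φ₀ (aeval a (rcp k a)) = 0
  rw [← Polynomial.aeval_algHom_apply, ← Polynomial.aeval_map_algebraMap K₀]
  rw [rcp, h]

  exact Matrix.aeval_self_charpoly _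

theorem isUnit_iff (a : A) : IsUnit a ↔ nrd k A a ≠ 0 := by
  refine ⟨fun h => (h.map (nrd k A)).ne_zero, fun h => ?_⟩
  obtain ⟨K, _, _, _, _, n, hn, ⟨φ⟩⟩ := Groth.L21.CSA.exists_galois_splitting k A
  have hdet : IsUnit (CSA.repr φ a).det := by
    rw [← nrd_spec φ a]; exact (isUnit_iff_ne_zero.mpr h).map _
  haveI : NeZero n := ⟨hn⟩
  have hinj : Function.Injective (LinearMap.mulLeft k a) := fun x y hxy =>
    RingHom.injective (CSA.repr φ).toRingHom
      ((((Matrix.isUnit_iff_isUnit_det _).mpr hdet).mul_left_cancel)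
        (((map_mul (CSA.repr φ) a x).symm.trans (congrArg (CSA.repr φ) hxy)).trans (map_mul (CSA.repr φ) a y)))
  obtain ⟨b, hb⟩ := (LinearMap.injective_iff_surjective (f := LinearMap.mulLeft k a)).mp hinj 1
  haveI := CSA.isArtinianRing_of_finite k A
  have hb' : a * b = 1 := hb
  exact ⟨⟨a, b, hb', hinj (by
    change a * (b * a) = a * 1
    rw [← mul_assoc, hb', one_mul, mul_one])⟩, rfl⟩

theorem nrd_algebraMap (c : k) : nrd k A (algebraMap k A c) = c ^ deg k A := by
  obtain ⟨K, _, _, _, _, n, hn, ⟨φ⟩⟩ := Groth.L21.CSA.exists_galois_splitting k A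
  obtain rfl : deg k A = n := Nat.pow_left_injective two_ne_zero (finrank_eq_deg_sq.symm.trans (size_eq φ))
  refine (algebraMap k K).injective ?_
  rw [nrd_spec φ, AlgHom.commutes, Matrix.algebraMap_eq_diagonal, Matrix.det_diagonal]
  simp

theorem nrd_one_add_of_isNilpotent {ν : A} (h : IsNilpotent ν) : nrd k A (1 + ν) = 1 := by
  obtain ⟨K, _, _, _, _, n, hn, ⟨φ⟩⟩ := Groth.L21.CSA.exists_galois_splitting k A
  refine (algebraMap k K).injective ?_
  have hN : IsNilpotent (-(CSA.repr φ ν)) := (h.map (CSA.repr φ)).neg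
  have h1 := (Matrix.isNilpotent_charpoly_sub_pow_of_isNilpotent hN).eq_zero
  have h2 := congrArg (fun p => Polynomial.eval 1 p) (sub_eq_zero.mp h1)
  simp only [Matrix.charpoly, eval_pow, eval_X, one_pow] at h2
  rw [nrd_spec φ, map_one, map_add, map_one, ← h2, ← Polynomial.coe_evalRingHom, RingHom.map_det]
  congr 1
  ext i j
  simp [Matrix.charmatrix_apply, Matrix.one_apply, Matrix.diagonal_apply, apply_ite (Polynomial.eval (1 : K))]

theorem charpoly_kronecker_one {K : Type w} [CommRing K] {m : Type x} [Fintype m] [DecidableEq m]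
    {n : Type y} [Fintype n] [DecidableEq n] (M : Matrix m m K) :
    (Matrix.kroneckerMap (· * ·) M (1 : Matrix n n K)).charpoly = M.charpoly ^ Fintype.card n := by
  have h : (Matrix.kroneckerMap (· * ·) M (1 : Matrix n n K)).charmatrix =
      Matrix.kroneckerMap (· * ·) M.charmatrix (1 : Matrix n n K[X]) := by
    ext ⟨i, a⟩ ⟨j, b⟩
    by_cases hij : i = j <;> by_cases hab : a = b <;> simp [Matrix.charmatrix_apply, hij, hab, Matrix.one_apply]
  rw [Matrix.charpoly, h, Matrix.det_kronecker, Matrix.det_one, one_pow, mul_one, Matrix.charpoly]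

theorem charpoly_mulLeft (a : A) : (LinearMap.mulLeft k a).charpoly = rcp k a ^ deg k A := by
  obtain ⟨K, _, _, _, _, n, hn, ⟨φ⟩⟩ := Groth.L21.CSA.exists_galois_splitting k A
  obtain rfl : deg k A = n := Nat.pow_left_injective two_ne_zero (finrank_eq_deg_sq.symm.trans (size_eq φ))
  refine Polynomial.map_injective _ (algebraMap k K).injective ?_
  rw [← LinearMap.charpoly_baseChange, Polynomial.map_pow, rcp_spec φ, ← LinearEquiv.charpoly_conj φ.toLinearEquiv,
    show φ.toLinearEquiv.conj ((LinearMap.mulLeft k a).baseChange K) = LinearMap.mulLeft K (CSA.repr φ a) from ?_,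
    ← LinearMap.charpoly_toMatrix _ (Matrix.stdBasis K (Fin (deg k A)) (Fin (deg k A)))]
  · rw [show LinearMap.toMatrix (Matrix.stdBasis K (Fin (deg k A)) (Fin (deg k A)))
        (Matrix.stdBasis K (Fin (deg k A)) (Fin (deg k A))) (LinearMap.mulLeft K (CSA.repr φ a)) =
        Matrix.kroneckerMap (· * ·) (CSA.repr φ a) (1 : Matrix (Fin (deg k A)) (Fin (deg k A)) K) from ?_]
    · rw [charpoly_kronecker_one, Fintype.card_fin]
    · ext ⟨i, c⟩ ⟨j, d⟩
      simp [LinearMap.toMatrix_apply, Matrix.stdBasis_eq_single, Matrix.mul_apply, Matrix.single_apply, Matrix.one_apply,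
        eq_comm]
      simp [Matrix.stdBasis, Matrix.mul_apply, Matrix.single_apply, eq_comm]
      rw [Finset.sum_eq_single j (fun x _ hx => if_neg fun hh => hx hh.1.symm)
        (fun h => absurd (Finset.mem_univ j) h)]
      simp
  · refine LinearMap.ext fun X => ?_
    obtain ⟨z, rfl⟩ := φ.surjective X
    rw [LinearEquiv.conj_apply_apply]
    change φ ((LinearMap.mulLeft k a).baseChange K (φ.symm (φ z))) = CSA.repr φ a * φ z
    rw [φ.symm_apply_apply, CSA.repr_apply, ← map_mul]
    congr 1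
    induction z using TensorProduct.induction_on with
    | zero => simp
    | tmul c b => simp [Algebra.TensorProduct.tmul_mul_tmul]
    | add x y hx hy => rw [map_add, mul_add, hx, hy]

theorem nextCoeff_rcp (a : A) : (rcp k a).nextCoeff = (rcp k a).coeff (deg k A - 1) := by
  rw [Polynomial.nextCoeff, natDegree_rcp a (finrank_eq_deg_sq (k := k) (A := A)), if_neg deg_ne_zero]

theorem deg_eq {n : ℕ} (hn : Module.finrank k A = n ^ 2) : deg k A = n :=
  Nat.pow_left_injective two_ne_zero (finrank_eq_deg_sq.symm.trans hn)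

theorem det_mulLeft (a : A) : LinearMap.det (LinearMap.mulLeft k a) = nrd k A a ^ deg k A := by
  rw [LinearMap.det_eq_sign_charpoly_coeff, charpoly_mulLeft, finrank_eq_deg_sq, sq, pow_mul,
    Polynomial.coeff_zero_eq_eval_zero, Polynomial.eval_pow, ← Polynomial.coeff_zero_eq_eval_zero, ← mul_pow]
  rfl

theorem trace_mulLeft (a : A) :
    LinearMap.trace k A (LinearMap.mulLeft k a) = deg k A • -(rcp k a).coeff (deg k A - 1) := by
  have hd := deg_ne_zero (k := k) (A := A)
  let b := Module.finBasis k A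
  haveI : Nonempty (Fin (Module.finrank k A)) := ⟨⟨0, Module.finrank_pos⟩⟩
  rw [LinearMap.trace_eq_matrix_trace k b, Matrix.trace_eq_neg_charpoly_coeff, LinearMap.charpoly_toMatrix,
    charpoly_mulLeft, Fintype.card_fin, finrank_eq_deg_sq]
  have h : ((rcp k a) ^ deg k A).natDegree = deg k A ^ 2 := by
    rw [(rcp_monic (k := k) a).natDegree_pow, natDegree_rcp a (finrank_eq_deg_sq (k := k) (A := A)), sq]
  have h2 := (rcp_monic (k := k) a).nextCoeff_pow (deg k A)
  rw [nextCoeff_rcp, Polynomial.nextCoeff, h, if_neg (pow_ne_zero 2 hd)] at h2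
  rw [h2, smul_neg]

theorem eq_of_monic_pow {P Q : k[X]} (hP : P.Monic) (hQ : Q.Monic) {n : ℕ} (hn : n ≠ 0) (h : P ^ n = Q ^ n) : P = Q :=
  Polynomial.eq_of_monic_of_associated hP hQ <| associated_of_dvd_dvd
    ((IsIntegrallyClosed.pow_dvd_pow_iff hn).mp h.dvd) ((IsIntegrallyClosed.pow_dvd_pow_iff hn).mp h.symm.dvd)

/-- A subfield of maximal degree: the reduced characteristic polynomial is the field one. -/
theorem rcp_subfield {K : Type w} [Field K] [Algebra k K] [FiniteDimensional k K] {n : ℕ} (hn : Module.finrank k A = n ^ 2)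
    (hK : Module.finrank k K = n) (ι : K →ₐ[k] A) (x : K) :
    rcp k (ι x) = (Algebra.lmul k K x).charpoly := by
  obtain rfl := deg_eq hn
  have hd := deg_ne_zero (k := k) (A := A)
  letI : Module K A := Module.compHom A ι.toRingHom
  have hsmul : ∀ (c : K) (a : A), c • a = ι c * a := fun _ _ => rfl
  haveI : IsScalarTower k K A := ⟨fun r c a => by
    rw [hsmul, hsmul, map_smul, Algebra.smul_mul_assoc]⟩
  haveI : Module.Finite K A := Module.Finite.of_restrictScalars_finite k K A
  have hm : Module.finrank K A = deg k A := by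
    have h1 := Module.finrank_mul_finrank k K A
    rw [hn, hK, sq] at h1
    exact Nat.eq_of_mul_eq_mul_left (Nat.pos_of_ne_zero hd) h1
  refine eq_of_monic_pow (rcp_monic _) (LinearMap.charpoly_monic _) hd ?_
  let bK := Module.finBasis k K
  let bA := Module.finBasis K A
  rw [← charpoly_mulLeft, ← LinearMap.charpoly_toMatrix _ (bK.smulTower bA),
    ← LinearMap.charpoly_toMatrix (Algebra.lmul k K x) bK]
  rw [show LinearMap.toMatrix (bK.smulTower bA) (bK.smulTower bA) (LinearMap.mulLeft k (ι x)) =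
      Matrix.kroneckerMap (· * ·) (LinearMap.toMatrix bK bK (Algebra.lmul k K x)) 1 from ?_]
  · rw [charpoly_kronecker_one, Fintype.card_fin, hm]
  · ext ⟨i, a⟩ ⟨j, b⟩
    simp only [LinearMap.toMatrix_apply, Matrix.kroneckerMap_apply, Matrix.one_apply]
    rw [Module.Basis.smulTower_apply, Module.Basis.smulTower_repr_mk, LinearMap.mulLeft_apply, ← hsmul, smul_smul,
      map_smul, Module.Basis.repr_self, Finsupp.smul_apply, Finsupp.single_apply]
    rcases eq_or_ne a b with rfl | hab
    · simp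
    · simp [hab, Ne.symm hab]

theorem nrd_subfield {K : Type w} [Field K] [Algebra k K] [FiniteDimensional k K] {n : ℕ} (hn : Module.finrank k A = n ^ 2)
    (hK : Module.finrank k K = n) (ι : K →ₐ[k] A) (x : K) :
    nrd k A (ι x) = Algebra.norm k x := by
  have h := rcp_subfield hn hK ι x
  obtain rfl := deg_eq hn
  rw [Algebra.norm_apply, LinearMap.det_eq_sign_charpoly_coeff, hK, ← h]
  rfl

end Groth.L11.RN
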