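import Groth.Agent.L11.CSA.Split
import Mathlib.RingTheory.SimpleModule.WedderburnArtin
import Mathlib.RingTheory.Artinian.Module
import Mathlib.RingTheory.Jacobson.Radical
import Mathlib.RingTheory.Unramified.Field
import Mathlib.RingTheory.Etale.Field
import Mathlib.LinearAlgebra.TensorProduct.Pi
import Mathlib.RingTheory.SimpleRing.Field

/-!
Semisimple algebras with separable centre stay semisimple under extension of the base field.
-/

set_option autoImplicit false
universe u v w x y

open scoped TensorProduct

namespace Groth.L11.Semi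

theorem isSemisimpleRing_of_jointly_injective {R : Type u} [Ring R] [IsArtinianRing R] {ι : Type v}
    (S : ι → Type w) [∀ i, Ring (S i)] [∀ i, IsSemisimpleRing (S i)] (f : ∀ i, R →+* S i)
    (hsurj : ∀ i, Function.Surjective (f i)) (hinj : ∀ x, (∀ i, f i x = 0) → x = 0) : IsSemisimpleRing R := by
  rw [IsArtinianRing.isSemisimpleRing_iff_jacobson, eq_bot_iff]
  intro x hx
  refine (Submodule.mem_bot R).mpr (hinj x fun i => ?_)
  haveI : RingHomSurjective (f i) := ⟨hsurj i⟩
  have h := Ring.le_comap_jacobson (f i) hx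
  rw [Ring.jacobson, IsSemisimpleModule.jacobson_eq_bot] at h
  exact h

/-- A semisimple ring whose centre has no nontrivial idempotent is simple. -/
theorem isSimpleRing_of_center {R : Type u} [Ring R] [IsSemisimpleRing R] [Nontrivial R]
    (h : ∀ e ∈ Subring.center R, IsIdempotentElem e → e = 0 ∨ e = 1) : IsSimpleRing R := by
  classical
  obtain ⟨n, D, d, _, hd, ⟨e⟩⟩ := IsSemisimpleRing.exists_ringEquiv_pi_matrix_divisionRing R
  rcases n with _ | n
  · exact absurd (e.injective (Subsingleton.elim (e 0) (e 1))) zero_ne_one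
  rcases n with _ | n
  · haveI := hd 0
    exact IsSimpleRing.of_ringEquiv
      ((RingEquiv.piUnique (fun i : Fin 1 => Matrix (Fin (d i)) (Fin (d i)) (D i))).symm.trans e.symm) inferInstance
  · exfalso
    haveI := hd 0
    haveI := hd 1
    set v : ∀ i, Matrix (Fin (d i)) (Fin (d i)) (D i) := Pi.single 0 1 with hv
    have hidem : IsIdempotentElem v := by
      funext i
      rcases eq_or_ne i 0 with rfl | hi
      · simp [v]
      · simp [v, hi]
    have hcen : e.symm v ∈ Subring.center R := by
      refine Subring.mem_center_iff.mpr fun g => e.injective ?_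
      rw [map_mul, map_mul, e.apply_symm_apply]
      funext i
      rcases eq_or_ne i 0 with rfl | hi
      · simp [v]
      · simp [v, hi]
    rcases h _ hcen (hidem.map e.symm) with h0 | h1
    · have := congrArg (fun z => e z 0) h0
      simp [v] at this
    · have := congrArg (fun z => e z 1) h1
      simp [v] at this

variable {k : Type u} [Field k]

theorem center_surjective_of_pi {A : Type v} [Ring A] [Algebra k A] {ι : Type y} [DecidableEq ι] {S : ι → Type w}
    [∀ i, Ring (S i)] [∀ i, Algebra k (S i)] (e : A ≃ₐ[k] ∀ i, S i) (i : ι) (z : S i)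
    (hz : z ∈ Subalgebra.center k (S i)) : ∃ a ∈ Subalgebra.center k A, e a i = z := by
  refine ⟨e.symm (Pi.single i z), Subalgebra.mem_center_iff.mpr fun b => e.injective ?_, by simp⟩
  rw [map_mul, map_mul, e.apply_symm_apply]
  funext j
  rcases eq_or_ne j i with rfl | hj
  · simpa using Subalgebra.mem_center_iff.mp hz (e b j)
  · simp [hj]

variable (k' : Type w) [Field k'] [Algebra k k']

/-- The factor of `k' ⊗ A` attached to a simple factor of `A` and a point of its centre. -/
theorem exists_factor' {A : Type v} [Ring A] [Algebra k A] {F : Type y} [Field F] [Algebra k F]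
    [FiniteDimensional k F] [Algebra.IsSeparable k F] {S : Type x} [Ring S] [IsSimpleRing S] [Algebra k S]
    [Algebra F S] [IsScalarTower k F S] [Algebra.IsCentral F S] [FiniteDimensional F S] (π : A →ₐ[k] S)
    (hπ : Function.Surjective π) (t : k' ⊗[k] A) (ht : LinearMap.lTensor k' π.toLinearMap t ≠ 0) :
    ∃ (T : Type (max x y w)) (_ : Ring T), IsSemisimpleRing T ∧
      ∃ f : k' ⊗[k] A →+* T, Function.Surjective f ∧ f t ≠ 0 := by
  classical
  let cR : k' ⊗[k] F ≃ₐ[k] (F ⊗[k] k') := Algebra.TensorProduct.comm k k' F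
  haveI : Algebra.FormallyUnramified k F := Algebra.FormallyUnramified.of_isSeparable k F
  haveI hred : IsReduced (k' ⊗[k] F) := Algebra.FormallyUnramified.isReduced_of_field k' (k' ⊗[k] F)
  haveI : IsReduced (F ⊗[k] k') := isReduced_of_injective cR.symm cR.symm.injective
  haveI : IsArtinianRing (k' ⊗[k] F) := IsArtinianRing.of_finite k' (k' ⊗[k] F)
  haveI : IsArtinianRing (F ⊗[k] k') := cR.toRingEquiv.isArtinianRing
  -- `k' ⊗ A → S ⊗_F (F ⊗[k] k')`
  let G : k' ⊗[k] A →ₗ[k] S ⊗[F] (F ⊗[k] k') :=
    ((TensorProduct.AlgebraTensorModule.cancelBaseChange k F F S k').symm.toLinearMap.restrictScalars k).comp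
      ((TensorProduct.comm k k' S).toLinearMap.comp (LinearMap.lTensor k' π.toLinearMap))
  have hGapply : ∀ c a, G (c ⊗ₜ[k] a) = π a ⊗ₜ[F] ((1 : F) ⊗ₜ[k] c) := fun c a => by simp [G]
  have hG : G t ≠ 0 := fun h => ht ((TensorProduct.comm k k' S).injective
    ((TensorProduct.AlgebraTensorModule.cancelBaseChange k F F S k').symm.injective
      (h.trans (by simp))))
  let P : (F ⊗[k] k') →ₗ[F] ∀ M : MaximalSpectrum (F ⊗[k] k'), (F ⊗[k] k') ⧸ M.asIdeal :=
    LinearMap.pi fun M => (Ideal.Quotient.mkₐ F M.asIdeal).toLinearMap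
  have hP : Function.Injective P := fun a b hab => by
    refine (IsArtinianRing.equivPi (F ⊗[k] k')).injective (funext fun M => ?_)
    exact congrFun hab M
  obtain ⟨M, hM⟩ : ∃ M : MaximalSpectrum (F ⊗[k] k'), LinearMap.lTensor S ((LinearMap.proj M).comp P) (G t) ≠ 0 := by
    by_contra hcon
    push Not at hcon
    haveI : Finite (MaximalSpectrum (F ⊗[k] k')) := inferInstance
    haveI := Fintype.ofFinite (MaximalSpectrum (F ⊗[k] k'))
    refine hG (Module.Flat.lTensor_preserves_injective_linearMap (M := S) P hP ?_)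
    rw [map_zero]
    refine (TensorProduct.piRight F F S fun M : MaximalSpectrum (F ⊗[k] k') => (F ⊗[k] k') ⧸ M.asIdeal).injective ?_
    rw [map_zero]
    funext M
    have : ∀ z : S ⊗[F] (F ⊗[k] k'), TensorProduct.piRight F F S (fun M : MaximalSpectrum (F ⊗[k] k') => (F ⊗[k] k') ⧸ M.asIdeal)
        (LinearMap.lTensor S P z) M = LinearMap.lTensor S ((LinearMap.proj M).comp P) z := by
      intro z
      induction z using TensorProduct.induction_on with
      | zero => simp
      | tmul a b => simp
      | add a b ha hb => simp only [map_add, Pi.add_apply, ha, hb]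
    rw [this, hcon M]
    rfl
  let K := (F ⊗[k] k') ⧸ M.asIdeal
  haveI := M.isMaximal
  letI : Field K := Ideal.Quotient.field M.asIdeal
  let T := S ⊗[F] K

  haveI : IsSimpleRing T := CSA.isSimpleRing_tensor
  let g : k' →ₐ[k] T := ((Algebra.TensorProduct.includeRight : K →ₐ[F] T).restrictScalars k).comp
    ((Ideal.Quotient.mkₐ k M.asIdeal).comp Algebra.TensorProduct.includeRight)
  let h : A →ₐ[k] T := ((Algebra.TensorProduct.includeLeft : S →ₐ[F] T).restrictScalars k).comp π
  have hcomm : ∀ c a, Commute (g c) (h a) := fun c a => by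
    change _ * _ = _ * _
    simp [g, h]
    erw [Algebra.TensorProduct.tmul_mul_tmul, Algebra.TensorProduct.tmul_mul_tmul, one_mul, mul_one, one_mul, mul_one]
  let f := Algebra.TensorProduct.lift g h hcomm
  have hf : ∀ x, f x = LinearMap.lTensor S ((LinearMap.proj M).comp P) (G x) := by
    intro x
    induction x using TensorProduct.induction_on with
    | zero => simp
    | tmul c a =>
      rw [hGapply]
      simp [f, g, h, P]
      erw [Algebra.TensorProduct.tmul_mul_tmul, one_mul, mul_one]
    | add a b ha hb => simp [ha, hb]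
  have hsurj : Function.Surjective f := by
    rw [← AlgHom.range_eq_top, eq_top_iff]
    intro z _
    induction z using TensorProduct.induction_on with
    | zero => exact zero_mem _
    | tmul a r =>
      obtain ⟨r, rfl⟩ := Ideal.Quotient.mk_surjective r
      induction r using TensorProduct.induction_on with
      | zero => rw [map_zero, TensorProduct.tmul_zero]; exact zero_mem _
      | tmul z c =>
        obtain ⟨b, hb⟩ := hπ (z • a)
        refine ⟨c ⊗ₜ b, ?_⟩
        change f (c ⊗ₜ b) = _
        rw [hf, hGapply, hb]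
        simp only [LinearMap.lTensor_tmul, LinearMap.comp_apply, LinearMap.proj_apply, P, LinearMap.pi_apply,
          AlgHom.toLinearMap_apply, Ideal.Quotient.mkₐ_eq_mk]
        rw [TensorProduct.smul_tmul, show z ⊗ₜ[k] c = z • ((1 : F) ⊗ₜ[k] c) by
          rw [TensorProduct.smul_tmul', smul_eq_mul, mul_one]]
        rfl
      | add p q hp hq => rw [map_add, TensorProduct.tmul_add]; exact add_mem (hp trivial) (hq trivial)
    | add p q hp hq => exact add_mem (hp trivial) (hq trivial)
  haveI : IsArtinianRing (K ⊗[F] S) := CSA.isArtinianRing_of_finite K (K ⊗[F] S)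
  haveI : IsArtinianRing T := (Algebra.TensorProduct.comm F K S).toRingEquiv.isArtinianRing
  exact ⟨T, inferInstance, inferInstance, f.toRingHom, hsurj, by simpa [hf] using hM⟩

theorem exists_factor {A : Type v} [Ring A] [Algebra k A] {S : Type x} [Ring S] [IsSimpleRing S] [Algebra k S]
    [FiniteDimensional k S] [Algebra.IsSeparable k (Subalgebra.center k S)] (π : A →ₐ[k] S)
    (hπ : Function.Surjective π) (t : k' ⊗[k] A) (ht : LinearMap.lTensor k' π.toLinearMap t ≠ 0) :
    ∃ (T : Type (max x w)) (_ : Ring T), IsSemisimpleRing T ∧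
      ∃ f : k' ⊗[k] A →+* T, Function.Surjective f ∧ f t ≠ 0 := by
  classical
  let F := Subalgebra.center k S
  haveI : IsDomain F := by
    have hf : IsField (Subring.center S) := IsSimpleRing.isField_center S
    exact (MulEquiv.isField hf (⟨⟨fun x => ⟨x.1, x.2⟩, fun x => ⟨x.1, x.2⟩, fun _ => rfl, fun _ => rfl⟩,
      fun _ _ => rfl⟩ : F ≃* Subring.center S)).isDomain
  letI : Field F :=
    ((Algebra.IsIntegral.isField_iff_isField (R := k) (algebraMap k F).injective).mp (Field.toIsField k)).toField
  letI : Algebra F S := (F.val.toRingHom).toAlgebra' fun z a => (Subalgebra.mem_center_iff.mp z.2 a).symm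
  haveI : IsScalarTower k F S := IsScalarTower.of_algebraMap_eq fun r => rfl
  haveI : Algebra.IsCentral F S := ⟨fun z hz => Algebra.mem_bot.mpr
    ⟨⟨z, Subalgebra.mem_center_iff.mpr fun b => Subalgebra.mem_center_iff.mp hz b⟩, rfl⟩⟩
  haveI : @IsScalarTower k F S Algebra.toSMul Algebra.toSMul Algebra.toSMul := IsScalarTower.of_algebraMap_eq fun r => rfl
  haveI : @Module.Finite F S _ _ Algebra.toModule :=
    @Module.Finite.of_restrictScalars_finite k F S _ _ _ _ Algebra.toModule Algebra.toSMul ‹_› _
  exact exists_factor' (F := F) k' π hπ t ht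

/-- Semisimple with separable centre implies geometrically semisimple. -/
theorem isSemisimpleRing_baseChange (A : Type v) [Ring A] [Algebra k A] [FiniteDimensional k A] [IsSemisimpleRing A]
    [Algebra.IsSeparable k (Subalgebra.center k A)] : IsSemisimpleRing (k' ⊗[k] A) := by
  classical
  obtain ⟨n, D, d, _, _, _, hd, ⟨e⟩⟩ := IsSemisimpleRing.exists_algEquiv_pi_matrix_divisionRing_finite k A
  haveI : IsArtinianRing (k' ⊗[k] A) := CSA.isArtinianRing_of_finite k' (k' ⊗[k] A)
  have key : ∀ t : k' ⊗[k] A, t ≠ 0 → ∃ (T : Type (max v w)) (_ : Ring T), IsSemisimpleRing T ∧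
      ∃ f : k' ⊗[k] A →+* T, Function.Surjective f ∧ f t ≠ 0 := by
    intro t ht
    obtain ⟨i, hi⟩ : ∃ i, LinearMap.lTensor k'
        (((Pi.evalAlgHom k (fun i => Matrix (Fin (d i)) (Fin (d i)) (D i)) i).comp e.toAlgHom).toLinearMap) t ≠ 0 := by
      by_contra hcon
      push Not at hcon
      refine ht (((TensorProduct.congr (LinearEquiv.refl k k') e.toLinearEquiv).trans
        (TensorProduct.piRight k k k' fun i => Matrix (Fin (d i)) (Fin (d i)) (D i))).injective ?_)
      rw [map_zero]
      funext i
      rw [Pi.zero_apply, ← hcon i]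
      clear hcon ht
      induction t using TensorProduct.induction_on with
      | zero => simp
      | tmul a b => simp
      | add a b ha hb => simp only [map_add, Pi.add_apply, ha, hb]
    haveI := hd i
    let π := (Pi.evalAlgHom k (fun i => Matrix (Fin (d i)) (Fin (d i)) (D i)) i).comp e.toAlgHom
    have hπ : Function.Surjective π := fun z => ⟨e.symm (Pi.single i z), by simp [π]⟩
    haveI : Algebra.IsSeparable k (Subalgebra.center k (Matrix (Fin (d i)) (Fin (d i)) (D i))) := by
      refine ⟨fun z => ?_⟩
      obtain ⟨a, ha, hae⟩ := center_surjective_of_pi e i z.1 z.2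
      have hsep : IsSeparable k (⟨a, ha⟩ : Subalgebra.center k A) := Algebra.IsSeparable.isSeparable k _
      refine Polynomial.Separable.of_dvd hsep (minpoly.dvd k z (Subtype.ext ?_))
      rw [← Subalgebra.coe_val, ← Polynomial.aeval_algHom_apply]
      change Polynomial.aeval z.1 _ = _
      rw [← hae, show e a i = π ((Subalgebra.center k A).val ⟨a, ha⟩) from rfl, Polynomial.aeval_algHom_apply,
        Polynomial.aeval_algHom_apply, minpoly.aeval, map_zero, map_zero]
      rfl
    exact exists_factor k' π hπ t hi
  choose T hT hss f hsurj hne using key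
  exact isSemisimpleRing_of_jointly_injective (fun t : {t : k' ⊗[k] A // t ≠ 0} => T t.1 t.2)
    (fun t => f t.1 t.2) (fun t => hsurj t.1 t.2) fun x hx => by_contra fun h => hne x h (hx ⟨x, h⟩)

end Groth.L11.Semi
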