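import Mathlib.Algebra.Central.Basic
import Mathlib.LinearAlgebra.TensorProduct.Basis
import Mathlib.LinearAlgebra.Dimension.Free
import Mathlib.RingTheory.SimpleRing.Basic
import Mathlib.RingTheory.TwoSidedIdeal.Operations
import Mathlib.RingTheory.TensorProduct.Maps
import Mathlib.RingTheory.Flat.Basic
import Mathlib.LinearAlgebra.Basis.VectorSpace
import Mathlib.LinearAlgebra.Basis.Prod

set_option autoImplicit false
universe u v w x

open scoped TensorProduct

namespace Groth.L11.CSA

variable {k : Type u} [Field k] {A : Type v} [Ring A] [Algebra k A] {B : Type w} [Ring B] [Algebra k B]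

section
variable {ι : Type x} [DecidableEq ι] (b : Module.Basis ι k B)

local notation "co" => TensorProduct.equivFinsuppOfBasisRight (M := A) b

theorem coord_left_mul (a : A) (z : A ⊗[k] B) (i : ι) :
    co ((a ⊗ₜ[k] (1 : B)) * z) i = a * co z i := by
  induction z using TensorProduct.induction_on with
  | zero => simp
  | tmul a' b' =>
    simp [Algebra.TensorProduct.tmul_mul_tmul, TensorProduct.equivFinsuppOfBasisRight_apply_tmul_apply,
      mul_smul_comm]
  | add x y hx hy => simp [mul_add, hx, hy]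

theorem coord_right_mul (a : A) (z : A ⊗[k] B) (i : ι) :
    co (z * (a ⊗ₜ[k] (1 : B))) i = co z i * a := by
  induction z using TensorProduct.induction_on with
  | zero => simp
  | tmul a' b' =>
    simp [Algebra.TensorProduct.tmul_mul_tmul, TensorProduct.equivFinsuppOfBasisRight_apply_tmul_apply,
      smul_mul_assoc]
  | add x y hx hy => simp [add_mul, hx, hy]

theorem eq_sum_coord (z : A ⊗[k] B) : (co z).sum (fun i m => m ⊗ₜ[k] b i) = z := by
  rw [← TensorProduct.equivFinsuppOfBasisRight_symm_apply, LinearEquiv.symm_apply_apply]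

end

/-- An element commuting with `s ⊗ 1` has all coordinates commuting with `s`. -/
theorem mem_range_map_of_commute_left (S : Set A) (z : A ⊗[k] B)
    (h : ∀ s ∈ S, (s ⊗ₜ[k] (1 : B)) * z = z * (s ⊗ₜ[k] (1 : B))) :
    z ∈ (Algebra.TensorProduct.map (Subalgebra.centralizer k S).val (AlgHom.id k B)).range := by
  classical
  let b := Module.Free.chooseBasis k B
  rw [← eq_sum_coord b z]
  refine Subalgebra.sum_mem _ fun i _ => ?_
  have hi : TensorProduct.equivFinsuppOfBasisRight (M := A) b z i ∈ Subalgebra.centralizer k S := by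
    rw [Subalgebra.mem_centralizer_iff]
    intro s hs
    rw [← coord_left_mul, ← coord_right_mul, h s hs]
  exact ⟨(⟨_, hi⟩ : Subalgebra.centralizer k S) ⊗ₜ b i, by simp⟩

/-- An element commuting with all `a ⊗ 1` has the form `1 ⊗ b` when `A` is central. -/
theorem exists_one_tmul_of_commute [Algebra.IsCentral k A] (z : A ⊗[k] B)
    (h : ∀ a : A, (a ⊗ₜ[k] (1 : B)) * z = z * (a ⊗ₜ[k] (1 : B))) :
    ∃ b₀ : B, z = 1 ⊗ₜ b₀ := by
  classical
  let b := Module.Free.chooseBasis k B
  have : ∀ i, ∃ r : k, TensorProduct.equivFinsuppOfBasisRight (M := A) b z i = algebraMap k A r := by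
    intro i
    have hi : TensorProduct.equivFinsuppOfBasisRight (M := A) b z i ∈ Subalgebra.center k A := by
      rw [Subalgebra.mem_center_iff]
      intro a
      rw [← coord_left_mul, ← coord_right_mul, h a]
    rw [Algebra.IsCentral.center_eq_bot, Algebra.mem_bot] at hi
    obtain ⟨r, hr⟩ := hi
    exact ⟨r, hr.symm⟩
  choose r hr using this
  refine ⟨∑ i ∈ (TensorProduct.equivFinsuppOfBasisRight (M := A) b z).support, r i • b i, ?_⟩
  conv_lhs => rw [← eq_sum_coord b z]
  rw [TensorProduct.tmul_sum, Finsupp.sum]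
  refine Finset.sum_congr rfl fun i _ => ?_
  rw [hr, Algebra.algebraMap_eq_smul_one, TensorProduct.smul_tmul]

instance isCentral_tensor [Algebra.IsCentral k A] [Algebra.IsCentral k B] :
    Algebra.IsCentral k (A ⊗[k] B) where
  out z hz := by
    rw [Subalgebra.mem_center_iff] at hz
    obtain ⟨b₀, rfl⟩ := exists_one_tmul_of_commute z fun a => hz _
    cases subsingleton_or_nontrivial A with
    | inl _ =>
      refine Algebra.mem_bot.mpr ⟨0, ?_⟩
      rw [show (1 : A) = 0 from Subsingleton.elim _ _, TensorProduct.zero_tmul, map_zero]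
    | inr _ =>
      have hb : b₀ ∈ Subalgebra.center k B := Subalgebra.mem_center_iff.mpr fun c => by
        have := hz ((1 : A) ⊗ₜ c)
        rw [Algebra.TensorProduct.tmul_mul_tmul, Algebra.TensorProduct.tmul_mul_tmul, one_mul] at this
        exact Algebra.TensorProduct.includeRight_injective (FaithfulSMul.algebraMap_injective k A) this
      rw [Algebra.IsCentral.center_eq_bot, Algebra.mem_bot] at hb
      obtain ⟨r, rfl⟩ := hb
      exact Algebra.mem_bot.mpr ⟨r, by simp [Algebra.algebraMap_eq_smul_one, Algebra.TensorProduct.one_def]⟩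

/-- The contraction of a two-sided ideal of `A ⊗ B` to `B`. -/
def contract (I : TwoSidedIdeal (A ⊗[k] B)) : TwoSidedIdeal B :=
  TwoSidedIdeal.comap (Algebra.TensorProduct.includeRight : B →ₐ[k] A ⊗[k] B).toRingHom I

theorem mem_contract (I : TwoSidedIdeal (A ⊗[k] B)) (x : B) :
    x ∈ contract I ↔ (1 : A) ⊗ₜ[k] x ∈ I := TwoSidedIdeal.mem_comap _

/-- Every two-sided ideal of `A ⊗ B`, with `A` central simple, is generated by its part in `1 ⊗ B`. -/
theorem eq_span_contract [Algebra.IsCentral k A] [IsSimpleRing A] (I : TwoSidedIdeal (A ⊗[k] B)) :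
    I = TwoSidedIdeal.span ((fun x : B => (1 : A) ⊗ₜ[k] x) '' {x : B | (1 : A) ⊗ₜ[k] x ∈ I}) := by
  classical
  refine le_antisymm ?_ (TwoSidedIdeal.span_le.mpr (by rintro _ ⟨x, hx, rfl⟩; exact hx))
  set S := TwoSidedIdeal.span ((fun x : B => (1 : A) ⊗ₜ[k] x) '' {x : B | (1 : A) ⊗ₜ[k] x ∈ I})
  have hS : S ≤ I := TwoSidedIdeal.span_le.mpr (by rintro _ ⟨x, hx, rfl⟩; exact hx)
  let J : Submodule k B :=
    { carrier := {x | (1 : A) ⊗ₜ[k] x ∈ I}
      zero_mem' := by simp [I.zero_mem]
      add_mem' := fun {x y} hx hy => by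
        change (1 : A) ⊗ₜ[k] (x + y) ∈ I
        rw [TensorProduct.tmul_add]; exact I.add_mem hx hy
      smul_mem' := fun r x hx => by
        change (1 : A) ⊗ₜ[k] (r • x) ∈ I
        rw [TensorProduct.tmul_smul, Algebra.smul_def]; exact I.mul_mem_left _ _ hx }
  obtain ⟨W, hW⟩ := Submodule.exists_isCompl J
  let bJ := Module.Free.chooseBasis k J
  let bW := Module.Free.chooseBasis k W
  let b := (bJ.prod bW).map (Submodule.prodEquivOfIsCompl J W hW)
  let co := TensorProduct.equivFinsuppOfBasisRight (M := A) b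
  have hJ : ∀ i a, a ⊗ₜ[k] b (Sum.inl i) ∈ S := by
    intro i a
    have : b (Sum.inl i) = (bJ i : B) := by simp [b]
    rw [this, show a ⊗ₜ[k] (bJ i : B) = (a ⊗ₜ[k] (1 : B)) * ((1 : A) ⊗ₜ[k] (bJ i : B)) by simp]
    exact S.mul_mem_left _ _ (TwoSidedIdeal.subset_span ⟨_, (bJ i).2, rfl⟩)
  have key : ∀ n, ∀ w ∈ I, (∀ i, co w (Sum.inl i) = 0) → (co w).support.card ≤ n → w = 0 := by
    intro n
    induction n with
    | zero =>
      intro w _ _ hc
      exact co.injective (by simpa using Finset.card_eq_zero.mp (Nat.le_zero.mp hc))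
    | succ n ih =>
      intro w hw hinl hc
      by_contra hw0
      obtain ⟨i₀, hi₀⟩ : ∃ i, co w i ≠ 0 := by
        by_contra h
        exact hw0 (co.injective (Finsupp.ext fun i => by
          rw [map_zero, Finsupp.zero_apply]; exact by_contra fun hne => h ⟨i, hne⟩))
      have hi₀s : i₀ ∈ (co w).support := Finsupp.mem_support_iff.mpr hi₀
      -- the ideal of possible `i₀` coordinates
      let C : TwoSidedIdeal A := TwoSidedIdeal.mk'
        {a | ∃ y ∈ I, co y i₀ = a ∧ ∀ i, co w i = 0 → co y i = 0}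
        ⟨0, I.zero_mem, by simp, fun i _ => by simp⟩
        (by rintro _ _ ⟨y, hy, rfl, h1⟩ ⟨y', hy', rfl, h2⟩
            exact ⟨y + y', I.add_mem hy hy', by simp, fun i hi => by simp [h1 i hi, h2 i hi]⟩)
        (by rintro _ ⟨y, hy, rfl, h1⟩
            exact ⟨-y, I.neg_mem hy, by simp, fun i hi => by simp [h1 i hi]⟩)
        (by rintro a _ ⟨y, hy, rfl, h1⟩
            exact ⟨(a ⊗ₜ 1) * y, I.mul_mem_left _ _ hy, coord_left_mul b a y i₀,
              fun i hi => by rw [coord_left_mul, h1 i hi, mul_zero]⟩)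
        (by rintro _ a ⟨y, hy, rfl, h1⟩
            exact ⟨y * (a ⊗ₜ 1), I.mul_mem_right _ _ hy, coord_right_mul b a y i₀,
              fun i hi => by rw [coord_right_mul, h1 i hi, zero_mul]⟩)
      have hmem : co w i₀ ∈ C := (TwoSidedIdeal.mem_mk' _ _ _ _ _ _ _).mpr ⟨w, hw, rfl, fun i hi => hi⟩
      obtain ⟨y, hy, hy1, hysupp⟩ := (TwoSidedIdeal.mem_mk' _ _ _ _ _ _ _).mp
        (IsSimpleRing.one_mem_of_ne_zero_mem C hi₀ hmem)
      have hycomm : ∀ a : A, (a ⊗ₜ[k] (1 : B)) * y = y * (a ⊗ₜ[k] (1 : B)) := by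
        intro a
        refine sub_eq_zero.mp (ih _ (I.sub_mem (I.mul_mem_left _ _ hy) (I.mul_mem_right _ _ hy)) ?_ ?_)
        · intro i
          simp [co, map_sub, coord_left_mul, coord_right_mul, hysupp _ (hinl i)]
        · refine le_trans (Finset.card_le_card (t := (co w).support.erase i₀) ?_) ?_
          · intro i hi
            rw [Finsupp.mem_support_iff] at hi
            rw [Finset.mem_erase, Finsupp.mem_support_iff]
            refine ⟨?_, fun h => hi ?_⟩
            · rintro rfl
              exact hi (by simp [co, map_sub, coord_left_mul, coord_right_mul, hy1])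
            · simp [co, map_sub, coord_left_mul, coord_right_mul, hysupp _ h]
          · rw [Finset.card_erase_of_mem hi₀s]; omega
      obtain ⟨y₀, rfl⟩ := exists_one_tmul_of_commute y hycomm
      have hy₀ : y₀ ∈ J := hy
      cases i₀ with
      | inl i => exact hi₀ (hinl i)
      | inr i =>
        have e : (Submodule.prodEquivOfIsCompl J W hW).symm y₀ = ((⟨y₀, hy₀⟩ : J), (0 : W)) :=
          Submodule.prodEquivOfIsCompl_symm_apply_left _ _ hW (⟨y₀, hy₀⟩ : J)
        have h0 : b.repr y₀ (Sum.inr i) = 0 := by simp [b, e]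
        have := hy1
        simp [co, TensorProduct.equivFinsuppOfBasisRight_apply_tmul_apply, h0] at this
  intro z hz
  let zJ : A ⊗[k] B := ∑ i ∈ (co z).support.filter (fun i => i.isLeft), co z i ⊗ₜ b i
  have hzJ : zJ ∈ S := by
    refine Finset.sum_induction _ (· ∈ S) (fun _ _ => S.add_mem) S.zero_mem fun i hi => ?_
    cases i with
    | inl i => exact hJ i _
    | inr i => simp at hi
  have hzero : z - zJ = 0 := by
    refine key _ (z - zJ) (I.sub_mem hz (hS hzJ)) (fun i => ?_) le_rfl
    simp only [zJ, map_sub, map_sum, Finsupp.sub_apply, Finsupp.finsetSum_apply]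
    simp [co, TensorProduct.equivFinsuppOfBasisRight_apply_tmul_apply, Finsupp.single_apply, ite_smul]
    split_ifs with h
    · rw [h, sub_zero]
    · exact sub_self _
  rw [sub_eq_zero] at hzero
  exact hzero ▸ hzJ

instance isSimpleRing_tensor [Algebra.IsCentral k A] [IsSimpleRing A] [IsSimpleRing B] :
    IsSimpleRing (A ⊗[k] B) := by
  haveI : Nontrivial (A ⊗[k] B) :=
    (Algebra.TensorProduct.includeRight_injective (FaithfulSMul.algebraMap_injective k A) :
      Function.Injective (fun x : B => (1 : A) ⊗ₜ[k] x)).nontrivial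
  refine IsSimpleRing.of_eq_bot_or_eq_top fun I => ?_
  by_cases hI : contract I = ⊥
  · left
    rw [eq_span_contract I, eq_bot_iff]
    refine TwoSidedIdeal.span_le.mpr ?_
    rintro _ ⟨x, hx, rfl⟩
    have : x ∈ (⊥ : TwoSidedIdeal B) := hI ▸ (mem_contract I x).mpr hx
    rw [TwoSidedIdeal.mem_bot] at this
    simp [this, TwoSidedIdeal.mem_bot]
  · right
    rw [← TwoSidedIdeal.one_mem_iff]
    exact (mem_contract I 1).mp (IsSimpleRing.one_mem_of_ne_bot _ hI)

end Groth.L11.CSA
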