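import Groth.Prelude.Def_GSzCSA
import Groth.Agent.L11.CSA.BrauerSplit
import Groth.Agent.L11.CSA.Tensor

/-!
Tensor powers of an algebra: recursion, central simplicity.
-/

set_option autoImplicit false
universe u v w

open scoped TensorProduct
open PiTensorProduct

namespace Groth.L11.TPow

theorem isCentral_of_algEquiv {k : Type u} [Field k] {D : Type v} [Ring D] [Algebra k D] {D' : Type w} [Ring D']
    [Algebra k D'] [h : Algebra.IsCentral k D] (e : D ≃ₐ[k] D') : Algebra.IsCentral k D' where
  out x hx :=
    have ⟨r, hr⟩ := h.1 ((MulEquivClass.apply_mem_center_iff e.symm).mpr hx)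
    ⟨r, by simpa [Algebra.ofId] using congr(e $hr)⟩

variable (k : Type u) [Field k] (A : Type v) [Ring A] [Algebra k A]

/-- `A^{⊗ e} ⊗ A ≅ A^{⊗ (e+1)}` linearly. -/
noncomputable def succLin (e : ℕ) : CSAGal.tpow k A e ⊗[k] A ≃ₗ[k] CSAGal.tpow k A (e + 1) :=
  (TensorProduct.congr (LinearEquiv.refl k _) (PiTensorProduct.subsingletonEquiv (s := fun _ : Fin 1 => A) (0 : Fin 1)).symm).trans
    ((PiTensorProduct.tmulEquiv k A).trans (PiTensorProduct.reindex k (fun _ => A) finSumFinEquiv))

theorem succLin_tprod (e : ℕ) (f : Fin e → A) (a : A) :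
    succLin k A e (tprod k f ⊗ₜ a) = tprod k fun i => Sum.elim f (fun _ : Fin 1 => a) (finSumFinEquiv.symm i) := by
  simp only [succLin, LinearEquiv.trans_apply, TensorProduct.congr_tmul, LinearEquiv.refl_apply,
    PiTensorProduct.subsingletonEquiv_symm_apply', PiTensorProduct.tmulEquiv_apply]
  exact PiTensorProduct.reindex_tprod _ _

theorem succLin_mul (e : ℕ) (x y : CSAGal.tpow k A e) (a b : A) :
    succLin k A e ((x * y) ⊗ₜ (a * b)) = succLin k A e (x ⊗ₜ a) * succLin k A e (y ⊗ₜ b) := by
  induction x using PiTensorProduct.induction_on with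
  | smul_tprod r f =>
    induction y using PiTensorProduct.induction_on with
    | smul_tprod s g =>
      simp only [smul_mul_assoc, mul_smul_comm, ← TensorProduct.smul_tmul', map_smul, PiTensorProduct.tprod_mul_tprod,
        succLin_tprod]
      congr 2
      refine congrArg (tprod k) (funext fun i => ?_)
      rcases h : finSumFinEquiv.symm i <;> simp [h]
    | add p q hp hq => simp only [mul_add, TensorProduct.add_tmul, map_add, hp, hq]
  | add p q hp hq => simp only [add_mul, TensorProduct.add_tmul, map_add, hp, hq]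

theorem succLin_one (e : ℕ) : succLin k A e (1 ⊗ₜ 1) = 1 := by
  rw [PiTensorProduct.one_def, succLin_tprod]
  refine congrArg (tprod k) (funext fun i => ?_)
  rcases h : finSumFinEquiv.symm i <;> simp [h]

/-- `A^{⊗ e} ⊗ A ≅ A^{⊗ (e+1)}`. -/
noncomputable def succEquiv (e : ℕ) : CSAGal.tpow k A e ⊗[k] A ≃ₐ[k] CSAGal.tpow k A (e + 1) :=
  Algebra.TensorProduct.algEquivOfLinearEquivTensorProduct (succLin k A e) (succLin_mul k A e) (succLin_one k A e)

/-- `A^{⊗ 0} ≅ k`. -/
noncomputable def zeroEquiv : CSAGal.tpow k A 0 ≃ₐ[k] k :=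
  AlgEquiv.ofLinearEquiv (PiTensorProduct.isEmptyEquiv (Fin 0))
    (by rw [PiTensorProduct.one_def, PiTensorProduct.isEmptyEquiv_apply_tprod])
    (fun x y => by
      induction x using PiTensorProduct.induction_on with
      | smul_tprod r f =>
        induction y using PiTensorProduct.induction_on with
        | smul_tprod s g =>
          simp only [smul_mul_assoc, mul_smul_comm, map_smul, PiTensorProduct.tprod_mul_tprod,
            PiTensorProduct.isEmptyEquiv_apply_tprod, smul_eq_mul]
          ring
        | add p q hp hq => simp only [mul_add, map_add, hp, hq]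
      | add p q hp hq => simp only [add_mul, map_add, hp, hq])

variable [Algebra.IsCentral k A] [IsSimpleRing A] [FiniteDimensional k A]

theorem csa (e : ℕ) : Algebra.IsCentral k (CSAGal.tpow k A e) ∧ IsSimpleRing (CSAGal.tpow k A e) ∧
    FiniteDimensional k (CSAGal.tpow k A e) := by
  induction e with
  | zero => exact ⟨isCentral_of_algEquiv (zeroEquiv k A).symm,
      IsSimpleRing.of_ringEquiv (zeroEquiv k A).symm.toRingEquiv inferInstance, Module.Finite.equiv (zeroEquiv k A).symm.toLinearEquiv⟩
  | succ e ih =>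
    obtain ⟨h1, h2, h3⟩ := ih
    exact ⟨isCentral_of_algEquiv (succEquiv k A e), IsSimpleRing.of_ringEquiv (succEquiv k A e).toRingEquiv inferInstance,
      Module.Finite.equiv (succEquiv k A e).toLinearEquiv⟩

end Groth.L11.TPow
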