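import Groth.Agent.L11.CSA.RedCharpoly
import Groth.Agent.L11.CSA.TPow
import Groth.Agent.L21.CSA.SepSubfield
import Mathlib.LinearAlgebra.BilinearForm.Properties
import Mathlib.GroupTheory.Perm.Sign
import Mathlib.LinearAlgebra.Multilinear.Basic

/-!
A central simple algebra of dimension `n²` has split `n`-th tensor power: the antisymmetriser
is an element of the tensor power of reduced rank one.
-/

set_option autoImplicit false
universe u v w

open scoped TensorProduct
open Finset

namespace Groth.L11.TPowSplit

variable {k : Type u} [Field k] {A : Type v} [Ring A] [Algebra k A] {K : Type w} [Field K] [Algebra k K] {n : ℕ}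

abbrev Idx (n : ℕ) := Fin n → Fin n

theorem ite_iff {α : Type*} {a b : α} {p q : Prop} {dp : Decidable p} {dq : Decidable q} (h : p ↔ q) :
    @ite α p dp a b = @ite α q dq a b := by
  by_cases hp : p <;> simp [hp, h.mp, mt h.mpr]

variable (ψ : A →ₐ[k] Matrix (Fin n) (Fin n) K)

/-- Generalised Kronecker product, as a multilinear map. -/
noncomputable def kronML : MultilinearMap k (fun _ : Fin n => A) (Matrix (Idx n) (Idx n) K) :=
  MultilinearMap.pi fun f => MultilinearMap.pi fun h =>
    (MultilinearMap.mkPiAlgebra k (Fin n) K).compLinearMap fun i =>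
      { toFun := fun a => ψ a (f i) (h i)
        map_add' := fun a b => by simp
        map_smul' := fun c a => by simp }

theorem kronML_apply (x : Fin n → A) (f h : Idx n) : kronML ψ x f h = ∏ i, ψ (x i) (f i) (h i) := rfl

theorem prod_one_apply (f h : Idx n) : (∏ i, (1 : Matrix (Fin n) (Fin n) K) (f i) (h i)) = if f = h then 1 else 0 := by
  simp only [Matrix.one_apply]
  rw [Fintype.prod_boole]
  exact ite_iff funext_iff.symm

/-- The representation of the tensor power. -/
noncomputable def rho : CSAGal.tpow k A n →ₐ[k] Matrix (Idx n) (Idx n) K :=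
  PiTensorProduct.liftAlgHom (kronML ψ)
    (by
      ext f h
      rw [kronML_apply, Matrix.one_apply]
      simp only [Pi.one_apply, map_one]
      exact prod_one_apply f h)
    (fun x y => by
      ext f h
      simp only [kronML_apply, Pi.mul_apply, map_mul, Matrix.mul_apply]
      rw [Fintype.prod_sum]
      simp only [Finset.prod_mul_distrib])

theorem rho_tprod (x : Fin n → A) (f h : Idx n) :
    rho ψ (PiTensorProduct.tprod k x) f h = ∏ i, ψ (x i) (f i) (h i) := by
  simp [rho, PiTensorProduct.liftAlgHom, kronML_apply]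

variable (K) in
/-- Permutation matrices on index tuples. -/
def P (π : Equiv.Perm (Fin n)) : Matrix (Idx n) (Idx n) K := fun f h => if f = h ∘ π then 1 else 0

theorem P_one : P (n := n) K 1 = 1 := by
  ext f h
  simp [P, Matrix.one_apply]

theorem P_mul (π τ : Equiv.Perm (Fin n)) : P K π * P K τ = P K (τ * π) := by
  ext f h
  rw [Matrix.mul_apply, Finset.sum_eq_single (h ∘ τ) (fun m _ hm => by simp [P, hm]) (by simp)]
  simp [P, Function.comp_assoc]

/-- The antisymmetrising vector. -/
noncomputable def eps (f : Idx n) : K := (Matrix.of fun i l => if f i = l then (1 : K) else 0).det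

theorem sum_sign_P (f h : Idx n) :
    ∑ π : Equiv.Perm (Fin n), (Equiv.Perm.sign π : ℤ) • P K π f h = eps h * eps f := by
  have hM : (Matrix.of fun i l => if h i = l then (1 : K) else 0) * (Matrix.of fun i l => if f i = l then (1 : K) else 0).transpose
      = Matrix.of fun i j => if h i = f j then (1 : K) else 0 := by
    ext i j
    simp [Matrix.mul_apply, eq_comm]
  rw [eps, eps, ← Matrix.det_transpose (Matrix.of fun i l => if f i = l then (1 : K) else 0), ← Matrix.det_mul, hM,
    Matrix.det_apply]
  refine Finset.sum_congr rfl fun π _ => ?_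
  simp only [Matrix.of_apply, P, Fintype.prod_boole, Units.smul_def]
  congr 1
  exact ite_iff ⟨fun e i => (congrFun e i).symm, fun e => funext fun i => (e i).symm⟩

theorem eps_id : eps (K := K) (id : Idx n) = 1 := by
  rw [eps, show (Matrix.of fun i l => if (id : Idx n) i = l then (1 : K) else 0) = 1 by
    ext i j; simp [Matrix.one_apply], Matrix.det_one]

section Goldman

variable [FiniteDimensional k A]
variable (hspan : Submodule.span K (Set.range ψ) = ⊤) (hinj : Function.Injective ψ)
  (htr : ∀ a, ∃ t : k, algebraMap k K t = (ψ a).trace)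

/-- The reduced trace. -/
noncomputable def T : A →ₗ[k] k where
  toFun a := (htr a).choose
  map_add' a b := (algebraMap k K).injective (by
    rw [(htr (a + b)).choose_spec, map_add, map_add, (htr a).choose_spec, (htr b).choose_spec, Matrix.trace_add])
  map_smul' c a := (algebraMap k K).injective (by
    rw [(htr (c • a)).choose_spec, RingHom.id_apply, smul_eq_mul, map_mul, (htr a).choose_spec, map_smul,
      Matrix.trace_smul, Algebra.smul_def])

theorem algebraMap_T (a : A) : algebraMap k K (T ψ htr a) = (ψ a).trace := (htr a).choose_spec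

/-- The reduced trace form. -/
noncomputable def form : LinearMap.BilinForm k A := (LinearMap.mul k A).compr₂ (T ψ htr)

theorem form_apply (a b : A) : form ψ htr a b = T ψ htr (a * b) := rfl

theorem form_comm (a b : A) : form ψ htr a b = form ψ htr b a := (algebraMap k K).injective (by
  rw [form_apply, form_apply, algebraMap_T, algebraMap_T, map_mul, map_mul, Matrix.trace_mul_comm])

include hspan hinj in
theorem form_nondegenerate : (form ψ htr).Nondegenerate := by
  have hL : ∀ a, (∀ b, form ψ htr a b = 0) → a = 0 := by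
    intro a ha
    refine hinj ?_
    rw [map_zero]
    have h0 : ∀ X, (ψ a * X).trace = 0 := fun X => by
      have hX : X ∈ Submodule.span K (Set.range ψ) := hspan ▸ Submodule.mem_top
      induction hX using Submodule.span_induction with
      | mem w hw =>
        obtain ⟨b, rfl⟩ := hw
        rw [← map_mul, ← algebraMap_T ψ htr, ← form_apply, ha, map_zero]
      | zero => simp
      | add x y _ _ hx hy => rw [mul_add, Matrix.trace_add, hx, hy, add_zero]
      | smul c x _ hx => rw [mul_smul_comm, Matrix.trace_smul, hx, smul_zero]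
    ext i j
    simpa [Matrix.trace_mul_single] using h0 (Matrix.single j i 1)
  exact ⟨fun a ha => hL a ha, fun a ha => hL a fun b => by rw [form_comm]; exact ha b⟩

include hspan hinj htr in
theorem exists_goldman : ∃ (ι : Type) (_ : Fintype ι) (u w : ι → A), ∀ i j p q,
    ∑ l, ψ (u l) i j * ψ (w l) p q = if i = q ∧ j = p then 1 else 0 := by
  classical
  let b := Module.finBasis k A
  let B := form ψ htr
  let d := B.dualBasis (form_nondegenerate ψ hspan hinj htr) b
  refine ⟨Fin (Module.finrank k A), inferInstance, b, d, fun i j p q => ?_⟩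
  have key : ∀ X : Matrix (Fin n) (Fin n) K, ∑ l, (X * ψ (d l)).trace • ψ (b l) = X := by
    intro X
    have hX : X ∈ Submodule.span K (Set.range ψ) := hspan ▸ Submodule.mem_top
    induction hX using Submodule.span_induction with
    | mem w hw =>
      obtain ⟨a, rfl⟩ := hw
      have ha : a = ∑ l, B (d l) a • b l := by
        conv_lhs => rw [← b.sum_repr a]
        refine Finset.sum_congr rfl fun l _ => ?_
        conv_rhs => rw [← b.sum_repr a]
        simp only [map_sum, map_smul, d, LinearMap.BilinForm.apply_dualBasis_left, smul_eq_mul, mul_ite, mul_one,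
          mul_zero, Finset.sum_ite_eq', Finset.mem_univ, if_true]
      conv_rhs => rw [ha, map_sum]
      refine Finset.sum_congr rfl fun l _ => ?_
      rw [map_smul, show B (d l) a = T ψ htr (a * d l) from form_comm ψ htr (d l) a, ← map_mul,
        ← algebraMap_T ψ htr, algebraMap_smul]
    | zero => simp
    | add x y _ _ hx hy => simp only [add_mul, Matrix.trace_add, add_smul, Finset.sum_add_distrib, hx, hy]
    | smul c x _ hx => simp only [smul_mul_assoc, Matrix.trace_smul, smul_assoc, ← Finset.smul_sum, hx]
  have h := congrFun (congrFun (key (Matrix.single q p 1)) i) j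
  simp only [Matrix.sum_apply, Matrix.smul_apply, Matrix.trace_single_mul, smul_eq_mul, one_mul, Matrix.single_apply] at h
  rw [show (if i = q ∧ j = p then (1 : K) else 0) = if q = i ∧ p = j then 1 else 0 from
    if_congr (by constructor <;> rintro ⟨rfl, rfl⟩ <;> exact ⟨rfl, rfl⟩) rfl rfl, ← h]
  exact Finset.sum_congr rfl fun l _ => mul_comm _ _

include hspan hinj htr in
theorem exists_swap {a b : Fin n} (hab : a ≠ b) : ∃ x, rho ψ x = P K (Equiv.swap a b) := by
  classical
  obtain ⟨ι, _, u, w, huw⟩ := exists_goldman ψ hspan hinj htr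
  refine ⟨∑ l, PiTensorProduct.tprod k fun i => if i = a then u l else if i = b then w l else 1, ?_⟩
  ext f h
  rw [map_sum, Matrix.sum_apply]
  simp only [rho_tprod]
  have hs : ∀ l, (∏ i, ψ (if i = a then u l else if i = b then w l else 1) (f i) (h i)) =
      ψ (u l) (f a) (h a) * ψ (w l) (f b) (h b) * ∏ i ∈ ({a, b} : Finset (Fin n))ᶜ, (1 : Matrix (Fin n) (Fin n) K) (f i) (h i) := by
    intro l
    rw [← Finset.prod_mul_prod_compl ({a, b} : Finset (Fin n)), Finset.prod_pair hab, if_pos rfl, if_neg hab.symm,
      if_pos rfl]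
    congr 1
    refine Finset.prod_congr rfl fun i hi => ?_
    simp only [Finset.mem_compl, Finset.mem_insert, Finset.mem_singleton, not_or] at hi
    rw [if_neg hi.1, if_neg hi.2, map_one]
  simp only [hs, ← Finset.sum_mul, huw, Matrix.one_apply, Finset.prod_boole]
  rw [ite_mul, one_mul, zero_mul, ← ite_and]
  refine ite_iff ⟨fun ⟨⟨h1, h2⟩, h3⟩ => funext fun i => ?_, fun e => ?_⟩
  · rw [Function.comp_apply]
    rcases eq_or_ne i a with rfl | hia
    · rw [Equiv.swap_apply_left]; exact h1
    rcases eq_or_ne i b with rfl | hib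
    · rw [Equiv.swap_apply_right]; exact h2.symm
    · rw [Equiv.swap_apply_of_ne_of_ne hia hib]
      exact h3 i (by simp [hia, hib])
  · subst e
    refine ⟨⟨by simp, by simp⟩, fun i hi => ?_⟩
    simp only [Finset.mem_compl, Finset.mem_insert, Finset.mem_singleton, not_or] at hi
    simp [Equiv.swap_apply_of_ne_of_ne hi.1 hi.2]

include hspan hinj htr in
theorem exists_antisymm : ∃ s, rho ψ s = Matrix.vecMulVec (eps (K := K)) (eps (K := K)) := by
  have hP : ∀ π : Equiv.Perm (Fin n), ∃ x, rho ψ x = P K π := fun π => by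
    induction π using Equiv.Perm.swap_induction_on' with
    | one => exact ⟨1, by rw [map_one, P_one]⟩
    | mul_swap f x y hxy ih =>
      obtain ⟨p, hp⟩ := ih
      obtain ⟨q, hq⟩ := exists_swap ψ hspan hinj htr hxy
      exact ⟨q * p, by rw [map_mul, hp, hq, P_mul]⟩
  choose x hx using hP
  refine ⟨∑ π : Equiv.Perm (Fin n), (Equiv.Perm.sign π : ℤ) • x π, ?_⟩
  ext f h
  simp only [map_sum, map_zsmul, hx, Matrix.sum_apply, Matrix.smul_apply, Matrix.vecMulVec_apply]
  rw [sum_sign_P, mul_comm]

end Goldman

/-- A central simple algebra with an element `s` such that `s B s` is at most a line is split. -/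
theorem splits_of_line {B : Type v} [Ring B] [Algebra k B] [Algebra.IsCentral k B] [IsSimpleRing B]
    [FiniteDimensional k B] {s : B} (hs : s ≠ 0) (h : ∀ x, s * x * s ∈ Submodule.span k {s}) :
    Curves.Splits k B k := by
  classical
  haveI := CSA.isArtinianRing_of_finite k B
  obtain ⟨m, hm, D, hD, hA, hDf, ⟨e⟩⟩ := IsSimpleRing.exists_algEquiv_matrix_divisionRing_finite k B
  obtain ⟨a, b, hz⟩ : ∃ a b, e s a b ≠ 0 := by
    by_contra hc
    exact hs (e.injective (by rw [map_zero]; ext a b; by_contra h'; exact hc ⟨a, b, h'⟩))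
  have hle : (⊤ : Submodule k D) ≤ Submodule.span k {e s a b} := fun y _ => by
    obtain ⟨c, hc⟩ := Submodule.mem_span_singleton.mp (h (e.symm (Matrix.single b a ((e s a b)⁻¹ * y * (e s a b)⁻¹))))
    have h' := congrArg (fun z => e z a b) hc
    rw [map_smul, map_mul, map_mul, e.apply_symm_apply, Matrix.smul_apply] at h'
    refine Submodule.mem_span_singleton.mpr ⟨c, h'.trans ?_⟩
    rw [Matrix.mul_apply, Finset.sum_eq_single a (fun j _ hj => by
      rw [Matrix.mul_apply, Finset.sum_eq_zero (fun l _ => by simp [Matrix.single_apply, Ne.symm hj]), zero_mul]) (by simp),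
      Matrix.mul_apply, Finset.sum_eq_single b (fun l _ hl => by simp [Matrix.single_apply, Ne.symm hl]) (by simp),
      Matrix.single_apply_same, mul_assoc, mul_assoc, inv_mul_cancel₀ hz, mul_one, mul_inv_cancel_left₀ hz]
  have h1 : Module.finrank k D ≤ 1 := by
    rw [← finrank_top]
    refine (Submodule.finrank_mono hle).trans ?_
    simpa using finrank_span_le_card ({e s a b} : Set D)
  have hD1 : Module.finrank k D = 1 := le_antisymm h1 Module.finrank_pos
  let ι : k ≃ₐ[k] D := AlgEquiv.ofBijective (Algebra.ofId k D)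
    ⟨(algebraMap k D).injective, (LinearMap.injective_iff_surjective_of_finrank_eq_finrank
      (f := Algebra.linearMap k D) (by rw [Module.finrank_self, hD1])).mp (algebraMap k D).injective⟩
  exact ⟨m, NeZero.ne m, ⟨(Algebra.TensorProduct.lid k B).trans (e.trans ι.symm.mapMatrix)⟩⟩

/-- The `n`-th tensor power of a central simple algebra of dimension `n²` is split. -/
theorem splits_tpow (A : Type v) [Ring A] [Algebra k A] [Algebra.IsCentral k A] [IsSimpleRing A]
    [FiniteDimensional k A] {n : ℕ} (hn : Module.finrank k A = n ^ 2) :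
    Curves.Splits k (CSAGal.tpow k A n) k := by
  classical
  obtain ⟨K, _, _, hfin, hgal, d, hd, ⟨φ⟩⟩ := Groth.L21.CSA.exists_galois_splitting k A
  obtain rfl : d = n := by
    have h := φ.toLinearEquiv.finrank_eq
    rw [Module.finrank_baseChange, hn, Module.finrank_matrix, Module.finrank_self, Fintype.card_fin, mul_one, ← sq] at h
    exact (Nat.pow_left_injective two_ne_zero h).symm
  haveI : NeZero d := ⟨hd⟩
  let ψ := CSA.repr φ
  have hinj : Function.Injective ψ := RingHom.injective ψ.toRingHom
  obtain ⟨s, hs⟩ := exists_antisymm ψ (CSA.span_repr φ) hinj (CSA.trace_repr_mem φ)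
  obtain ⟨hc, hsim, hf⟩ := TPow.csa k A d
  have hs0 : s ≠ 0 := fun h => by
    have := congrFun (congrFun hs id) id
    simp [h, Matrix.vecMulVec_apply, eps_id] at this
  refine splits_of_line hs0 fun x => ?_
  obtain ⟨c, hc'⟩ : ∃ c : K, rho ψ (s * x * s) = c • rho ψ s := by
    refine ⟨dotProduct (Matrix.vecMul (eps (K := K)) (rho ψ x)) (eps (K := K)), ?_⟩
    rw [map_mul, map_mul, hs]
    ext f h
    simp only [Matrix.mul_apply, Matrix.vecMulVec_apply, Matrix.smul_apply, smul_eq_mul, dotProduct, Matrix.vecMul,
      Finset.sum_mul, Finset.mul_sum]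
    refine Finset.sum_congr rfl fun l _ => Finset.sum_congr rfl fun m _ => ?_
    ring
  haveI : IsSimpleRing (K ⊗[k] CSAGal.tpow k A d) := CSA.isSimpleRing_baseChange k _ K
  let ρK : K ⊗[k] CSAGal.tpow k A d →ₐ[K] Matrix (Idx d) (Idx d) K :=
    Algebra.TensorProduct.lift (Algebra.ofId K _) (rho ψ) fun c y => Algebra.commutes c _
  have hρK : ∀ (c : K) y, ρK (c ⊗ₜ y) = c • rho ψ y := fun c y => by
    simp [ρK, Algebra.smul_def, Algebra.ofId_apply]
  have heq : (1 : K) ⊗ₜ[k] (s * x * s) = c ⊗ₜ s := RingHom.injective ρK.toRingHom (by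
    change ρK _ = ρK _
    rw [hρK, hρK, one_smul, hc'])
  obtain ⟨ℓ, hℓ⟩ : ∃ ℓ : CSAGal.tpow k A d →ₗ[k] k, ℓ s = 1 := by
    obtain ⟨ℓ, hℓ⟩ := Submodule.exists_dual_map_eq_bot_of_notMem (p := (⊥ : Submodule k (CSAGal.tpow k A d)))
      (by simpa using hs0) inferInstance
    exact ⟨(ℓ s)⁻¹ • ℓ, by simp [hℓ.1]⟩
  have hcl : c = algebraMap k K (ℓ (s * x * s)) := by
    have := congrArg (fun z => TensorProduct.rid k K (TensorProduct.map LinearMap.id ℓ z)) heq
    simpa [hℓ, Algebra.smul_def] using this.symm
  refine Submodule.mem_span_singleton.mpr ⟨ℓ (s * x * s), ?_⟩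
  refine Algebra.TensorProduct.includeRight_injective (A := K) (algebraMap k K).injective ?_
  simp only [Algebra.TensorProduct.includeRight_apply]
  rw [heq, hcl, ← TensorProduct.smul_tmul, ← Algebra.algebraMap_eq_smul_one]

end Groth.L11.TPowSplit
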