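import Groth.Agent.L11.CSA.Skolem
import Mathlib.RingTheory.SimpleRing.Matrix
import Mathlib.LinearAlgebra.Matrix.ToLin
import Mathlib.Data.Matrix.Composition
import Mathlib.LinearAlgebra.FreeModule.Finite.Matrix

set_option autoImplicit false
universe u v w x

namespace Groth.L11.CSA

/-- Column vectors as a module over the matrix ring. -/
@[nolint unusedArguments]
def Col (n : Type x) (D : Type v) : Type (max x v) := n → D

section
variable {n : Type x} [Fintype n] [DecidableEq n] {D : Type v}

instance [Ring D] : AddCommGroup (Col n D) := inferInstanceAs (AddCommGroup (n → D))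
instance [Ring D] : Module (Matrix n n D) (Col n D) where
  smul M v := M.mulVec v
  one_smul v := Matrix.one_mulVec (show n → D from v)
  mul_smul M N v := (Matrix.mulVec_mulVec (show n → D from v) M N).symm
  smul_zero M := Matrix.mulVec_zero M
  smul_add M v w := Matrix.mulVec_add M (show n → D from v) (show n → D from w)
  add_smul M N v := Matrix.add_mulVec M N (show n → D from v)
  zero_smul v := Matrix.zero_mulVec (show n → D from v)

theorem isSimpleModule_col [DivisionRing D] [Nonempty n] : IsSimpleModule (Matrix n n D) (Col n D) := by
  have : Nontrivial (Col n D) := inferInstanceAs (Nontrivial (n → D))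
  refine isSimpleModule_iff_toSpanSingleton_surjective.mpr ⟨this, fun v hv w => ?_⟩
  obtain ⟨i, hi⟩ := Function.ne_iff.mp (show (show n → D from v) ≠ 0 from hv)
  refine ⟨Matrix.of fun j l => if l = i then (show n → D from w) j * ((show n → D from v) i)⁻¹ else 0, ?_⟩
  funext j
  change (Matrix.of _).mulVec (show n → D from v) j = _
  have hi' : (show n → D from v) i ≠ 0 := hi
  simp [Matrix.mulVec, dotProduct, mul_assoc, inv_mul_cancel₀ hi']

/-- `d ↦ (v ↦ v * d)`. -/
def rightMul [Ring D] (d : D) : Module.End (Matrix n n D) (Col n D) where
  toFun v := fun i => (show n → D from v) i * d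
  map_add' v w := funext fun _ => add_mul _ _ _
  map_smul' M v := funext fun i => by
    change (M.mulVec (show n → D from v)) i * d = M.mulVec (fun j => (show n → D from v) j * d) i
    simp [Matrix.mulVec, dotProduct, Finset.sum_mul, mul_assoc]

/-- Endomorphisms of the column module are the right multiplications. -/
noncomputable def endColEquiv [Ring D] [Nonempty n] : Dᵐᵒᵖ ≃+* Module.End (Matrix n n D) (Col n D) := by
  refine RingEquiv.ofBijective
    ({ toFun := fun d => rightMul d.unop
       map_one' := LinearMap.ext fun v => funext fun i => mul_one _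
       map_mul' := fun a b => LinearMap.ext fun v => funext fun i => (mul_assoc _ _ _).symm
       map_zero' := LinearMap.ext fun v => funext fun i => mul_zero _
       map_add' := fun a b => LinearMap.ext fun v => funext fun i => mul_add _ _ _ } :
      Dᵐᵒᵖ →+* Module.End (Matrix n n D) (Col n D)) ⟨?_, ?_⟩
  · intro a b h
    obtain ⟨i⟩ := ‹Nonempty n›
    have := congrFun (LinearMap.congr_fun h (show Col n D from fun _ => 1)) i
    change (1 : D) * a.unop = 1 * b.unop at this
    simpa using this
  · intro φ
    obtain ⟨i⟩ := ‹Nonempty n›
    let e : n → D := Pi.single i 1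
    refine ⟨MulOpposite.op ((show n → D from φ e) i), LinearMap.ext fun v => ?_⟩
    have h1 : ((Matrix.of fun j l => if l = i then (show n → D from v) j else 0) : Matrix n n D) • (show Col n D from e) = v := by
      funext j
      change (Matrix.of _).mulVec e j = _
      simp [Matrix.mulVec, dotProduct, e, Pi.single_apply]
    have h2 := φ.map_smul (Matrix.of fun j l => if l = i then (show n → D from v) j else 0) (show Col n D from e)
    rw [h1] at h2
    rw [h2]
    funext j
    change (show n → D from v) j * (show n → D from φ e) i = (Matrix.of _).mulVec (show n → D from φ e) j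
    simp [Matrix.mulVec, dotProduct]

end

variable {k : Type u} [Field k]

/-- Uniqueness in the Artin–Wedderburn theorem. -/
theorem nonempty_algEquiv_of_matrix {n : Type x} [Fintype n] [DecidableEq n] [Nonempty n]
    {m : Type x} [Fintype m] [DecidableEq m] [Nonempty m]
    {D : Type v} [DivisionRing D] [Algebra k D] [FiniteDimensional k D]
    {D' : Type w} [DivisionRing D'] [Algebra k D']
    (e : Matrix n n D ≃ₐ[k] Matrix m m D') :
    Nonempty (D ≃ₐ[k] D') ∧ Fintype.card n = Fintype.card m := by
  have := isArtinianRing_of_finite k (Matrix n n D)
  letI : Module (Matrix n n D) (Col m D') := Module.compHom (Col m D') e.toRingEquiv.toRingHom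
  have : IsSimpleModule (Matrix n n D) (Col m D') := by
    have := isSimpleModule_col (n := m) (D := D')
    refine isSimpleModule_iff_toSpanSingleton_surjective.mpr ⟨this.nontrivial, fun v hv w => ?_⟩
    obtain ⟨M, hM⟩ := (isSimpleModule_iff_toSpanSingleton_surjective.mp this).2 v hv w
    refine ⟨e.symm M, ?_⟩
    change e (e.symm M) • v = w
    rw [e.apply_symm_apply]; exact hM
  have := isSimpleModule_col (n := n) (D := D)
  obtain ⟨f⟩ := nonempty_linearEquiv_of_simple (R := Matrix n n D) (Col n D) (Col m D')
  let E : Module.End (Matrix n n D) (Col m D') ≃+* Module.End (Matrix m m D') (Col m D') :=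
    { toFun := fun φ =>
        { toFun := φ
          map_add' := φ.map_add
          map_smul' := fun M v => by
            have := φ.map_smul (e.symm M) v
            change φ (e (e.symm M) • v) = e (e.symm M) • φ v at this
            rwa [e.apply_symm_apply] at this }
      invFun := fun φ => { toFun := φ, map_add' := φ.map_add, map_smul' := fun M v => φ.map_smul (e M) v }
      left_inv := fun φ => rfl
      right_inv := fun φ => rfl
      map_mul' := fun _ _ => rfl
      map_add' := fun _ _ => rfl }
  let Φ : Dᵐᵒᵖ ≃+* D'ᵐᵒᵖ := (endColEquiv (n := n) (D := D)).trans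
    (f.conjRingEquiv.trans (E.trans (endColEquiv (n := m) (D := D')).symm))
  let g : D ≃+* D' := RingEquiv.op.symm Φ
  have hr : ∀ r : k, g (algebraMap k D r) = algebraMap k D' r := by
    intro r
    change (Φ (MulOpposite.op (algebraMap k D r))).unop = _
    refine MulOpposite.op_injective ((endColEquiv (n := m) (D := D')).injective ?_)
    rw [MulOpposite.op_unop]
    simp only [Φ, RingEquiv.trans_apply, RingEquiv.apply_symm_apply]
    refine LinearMap.ext fun v => ?_
    have hv : ∀ u : Col n D, endColEquiv (MulOpposite.op (algebraMap k D r)) u =
        algebraMap k (Matrix n n D) r • u := fun u => funext fun i => by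
      change (show n → D from u) i * algebraMap k D r = ((algebraMap k (Matrix n n D) r).mulVec (show n → D from u)) i
      rw [Matrix.algebraMap_eq_diagonal]
      exact (((Matrix.mulVec_diagonal (fun _ => algebraMap k D r) (show n → D from u) i).trans (Algebra.commutes r _))).symm
    change f (endColEquiv (MulOpposite.op (algebraMap k D r)) (f.symm v)) = _
    rw [hv, map_smul, f.apply_symm_apply]
    change e (algebraMap k _ r) • v = _
    rw [e.commutes]
    funext i
    change ((algebraMap k (Matrix m m D') r).mulVec (show m → D' from v)) i = (show m → D' from v) i * algebraMap k D' r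
    rw [Matrix.algebraMap_eq_diagonal]
    exact (Matrix.mulVec_diagonal (fun _ => algebraMap k D' r) (show m → D' from v) i).trans (Algebra.commutes r _)
  let gA := AlgEquiv.ofRingEquiv (f := g) hr
  refine ⟨⟨gA⟩, ?_⟩
  have : FiniteDimensional k D' := Module.Finite.equiv gA.toLinearEquiv
  have h := e.toLinearEquiv.finrank_eq
  rw [Module.finrank_matrix, Module.finrank_matrix, gA.toLinearEquiv.finrank_eq] at h
  have := Nat.eq_of_mul_eq_mul_right Module.finrank_pos h
  exact Nat.mul_self_inj.mp this

end Groth.L11.CSA
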